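/-
Recognition of extraspecial 2-groups and of the generalized Fitting subgroup.
-/
import Cfsg.Prelude.Def_MonsterType
import Cfsg.Agent.Solvable.PGroupBasic
import Cfsg.Agent.Comp.Layer

set_option autoImplicit false
set_option linter.style.haveILetI false

namespace CfsgLib.Monster

open Cfsg

/-- A criterion for being extraspecial. -/
theorem isExtraspecial_of {P : Type*} [Group P] [Finite P] (hP : IsPGroup 2 P)
    (hc : Nat.card (Subgroup.center P) = 2) (hcomm : ∀ a b : P, a * b * a⁻¹ * b⁻¹ ∈ Subgroup.center P)
    (hsq : ∀ a : P, a * a ∈ Subgroup.center P) (hne : ∃ a b : P, a * b ≠ b * a) :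
    IsExtraspecial 2 P := by
  haveI : Fact (Nat.Prime 2) := ⟨Nat.prime_two⟩
  have hle : commutator P ≤ Subgroup.center P := by
    rw [commutator_def, Subgroup.commutator_le]
    intro a _ b _
    rw [commutatorElement_def]
    exact hcomm a b
  have hC : commutator P = Subgroup.center P := by
    refine Subgroup.eq_of_le_of_card_ge hle ?_
    rw [hc]
    haveI : Nontrivial (commutator P) := by
      rw [Subgroup.nontrivial_iff_ne_bot]
      intro h
      obtain ⟨a, b, hab⟩ := hne
      have hm : a * b * a⁻¹ * b⁻¹ ∈ commutator P := by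
        rw [commutator_def, ← commutatorElement_def]
        exact Subgroup.commutator_mem_commutator (Subgroup.mem_top a) (Subgroup.mem_top b)
      rw [h, Subgroup.mem_bot] at hm
      exact hab (mul_inv_eq_iff_eq_mul.1 (mul_inv_eq_one.1 hm))
    exact Finite.one_lt_card
  refine ⟨⟨hP, le_antisymm ?_ (hC ▸ (PGroupBasic.commutator_pow_le_frattini hP).1), hC⟩, hc⟩
  exact PGroupBasic.frattini_le_of_elementary (p := 2) _ hle fun x => by rw [pow_two]; exact hsq x

/-- A self-centralising normal 2-subgroup with non-abelian simple quotient is the generalized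
Fitting subgroup. -/
theorem Fstar_eq_of_simple_quotient {D : Type*} [Group D] [Finite D] (R : Subgroup D) [R.Normal]
    (hR : IsPGroup 2 R) [IsSimpleGroup (D ⧸ R)] (hnc : ¬ Group.IsSolvable (D ⧸ R))
    (hC : Subgroup.centralizer (R : Set D) ≤ R) : generalizedFittingSubgroup D = R := by
  haveI : Fact (Nat.Prime 2) := ⟨Nat.prime_two⟩
  refine le_antisymm (Comp.Fstar_le_of_self_centralizing R ?_ hC)
    ((Comp.le_fitting inferInstance hR.isNilpotent).trans Comp.fitting_le_Fstar)
  haveI := Comp.fitting_isSolvable (G := D)
  have hn : ((fittingSubgroup D).map (QuotientGroup.mk' R)).Normal :=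
    Subgroup.Normal.map inferInstance _ (QuotientGroup.mk'_surjective R)
  rcases hn.eq_bot_or_eq_top with h | h
  · rwa [Subgroup.map_eq_bot_iff, QuotientGroup.ker_mk'] at h
  · exfalso
    refine hnc (Group.isSolvable_of_surjective
      (f := (QuotientGroup.mk' R).comp (fittingSubgroup D).subtype) ?_)
    rw [← MonoidHom.range_eq_top, MonoidHom.range_comp, Subgroup.range_subtype, h]

/-- A finite simple group of order divisible by two distinct primes is not solvable. -/
theorem not_solvable_of_simple {H : Type*} [Group H] [Finite H] [IsSimpleGroup H] {p q : ℕ}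
    (hp : p.Prime) (hq : q.Prime) (hpq : p ≠ q) (h1 : p ∣ Nat.card H) (h2 : q ∣ Nat.card H) :
    ¬ Group.IsSolvable H := by
  intro hs
  haveI := hs
  letI : CommGroup H := { (inferInstance : Group H) with
    mul_comm := IsSimpleGroup.comm_iff_isSolvable.2 hs }
  have hprime := IsSimpleGroup.prime_card (α := H)
  exact hpq (((Nat.prime_dvd_prime_iff_eq hp hprime).1 h1).trans
    ((Nat.prime_dvd_prime_iff_eq hq hprime).1 h2).symm)

end CfsgLib.Monster
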