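/-
Groups of Monster type: the dictionary between the extraspecial subgroup modulo its centre and
the lattice modulo twice itself.
-/
import Cfsg.Prelude.Def_MonsterType
import Cfsg.Agent.Spor3T.Extraspecial
import Cfsg.Agent.Leech.ModTwoStab

set_option autoImplicit false
set_option linter.style.haveILetI false

namespace CfsgLib.Monster

open Cfsg CfsgLib.Leech CfsgLib.Extra2

attribute [local irreducible] shortVecs halfTable quarterTable codeFinset

variable {G : Type*} [Group G]

/-- An extraspecial normal subgroup of an involution centraliser with the lattice modulo two as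
module over the quotient. -/
structure Data (z : G) where
  Q : Subgroup G
  π : Subgroup.centralizer ({z} : Set G) →* Spor.Co1
  cl : G → (GolayPt → ℤ) ⧸ twoLeech
  order_z : orderOf z = 2
  le_C : Q ≤ Subgroup.centralizer ({z} : Set G)
  mem_ker : ∀ c : Subgroup.centralizer ({z} : Set G), π c = 1 ↔ (c : G) ∈ Q
  surj : Function.Surjective π
  gen : Gen Q z
  card : Nat.card Q = 2 ^ 25
  cl_rep : ∀ q ∈ Q, ∃ v : leechLattice, cl q = cls (v : GolayPt → ℤ)
  cl_surj : ∀ v : leechLattice, ∃ q ∈ Q, cl q = cls (v : GolayPt → ℤ)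
  cl_mul : ∀ q ∈ Q, ∀ r ∈ Q, cl (q * r) = cl q + cl r
  cl_zero : ∀ q ∈ Q, (cl q = cls 0 ↔ q = 1 ∨ q = z)
  act : ∀ (c : Subgroup.centralizer ({z} : Set G)) (g : Co0), π c = QuotientGroup.mk g →
    ∀ q ∈ Q, ∀ v : leechLattice, cl q = cls (v : GolayPt → ℤ) →
      cl ((c : G) * q * (c : G)⁻¹) = cls ((g • v : leechLattice) : GolayPt → ℤ)

section Build

variable {z : G} {Q : Subgroup (Subgroup.centralizer ({z} : Set G))} [Q.Normal]
  {e : (Subgroup.centralizer ({z} : Set G)) ⧸ Q ≃* Spor.Co1}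
  {ψ : leechLattice → Q ⧸ Subgroup.center Q}

theorem z_mem (hset : IsExtraspecialCentralizerSetting z Q 12) (hψ : IsLeechModTwoIso Q e ψ) :
    (⟨z, Subgroup.mem_centralizer_singleton_iff.2 rfl⟩ : Subgroup.centralizer ({z} : Set G)) ∈ Q := by
  obtain ⟨hadd, hsurj, hker, hact⟩ := hψ
  set zz : Subgroup.centralizer ({z} : Set G) := ⟨z, Subgroup.mem_centralizer_singleton_iff.2 rfl⟩
  obtain ⟨g, hg⟩ := QuotientGroup.mk_surjective (e (QuotientGroup.mk zz))
  have hgc : g ∈ Subgroup.center Co0 := central_of_trivial_mod_two fun v => by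
    obtain ⟨q, hq⟩ := QuotientGroup.mk_surjective (ψ v)
    have h := hact zz g hg v q hq.symm
    have hfix : (⟨zz * q * zz⁻¹, (inferInstance : Q.Normal).conj_mem _ q.2 zz⟩ : Q) = q := by
      refine Subtype.ext (Subtype.ext ?_)
      show z * ((q : Subgroup.centralizer ({z} : Set G)) : G) * z⁻¹ = _
      rw [mul_inv_eq_iff_eq_mul]
      exact (Subgroup.mem_centralizer_singleton_iff.1 (q : Subgroup.centralizer ({z} : Set G)).2).symm
    rw [hfix, hq] at h
    have h1 : ψ (g • v + v) = 1 := by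
      rw [hadd, h, ← hadd]
      exact (hker _).2 ⟨v, rfl⟩
    obtain ⟨w, hw⟩ := (hker _).1 h1
    refine (cls_eq_iff _ _).2 ⟨(w : GolayPt → ℤ) - (v : GolayPt → ℤ), leechLattice.sub_mem w.2 v.2, ?_⟩
    have hw' := congrArg Subtype.val hw
    rw [AddSubgroup.coe_add, AddSubgroup.coe_add] at hw'
    funext i
    have hi := congrFun hw' i
    simp only [Pi.add_apply] at hi
    simp only [Pi.sub_apply, Pi.smul_apply, nsmul_eq_mul, Nat.cast_ofNat]
    linarith
  have h1 : e (QuotientGroup.mk zz) = 1 := by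
    rw [← hg]; exact (QuotientGroup.eq_one_iff g).2 hgc
  exact (QuotientGroup.eq_one_iff zz).1 (e.map_eq_one_iff.1 h1)

theorem exists_data (hset : IsExtraspecialCentralizerSetting z Q 12) (hψ : IsLeechModTwoIso Q e ψ) :
    ∃ D : Data z, D.Q = Q.map (Subgroup.centralizer ({z} : Set G)).subtype ∧
      (∀ c, D.π c = e (QuotientGroup.mk c)) ∧
      ∀ (x : Q) (v : leechLattice),
        D.cl ((x : Subgroup.centralizer ({z} : Set G)) : G) = cls (v : GolayPt → ℤ) ↔
          ψ v = QuotientGroup.mk x := by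
  classical
  have hzQ := z_mem hset hψ
  obtain ⟨hz2, -, hext, hcard, -⟩ := hset
  obtain ⟨hadd, hsurj, hker, hact⟩ := hψ
  let C := Subgroup.centralizer ({z} : Set G)
  set QG := Q.map C.subtype with hQG
  have hle : QG ≤ C := Subgroup.map_subtype_le Q
  have hmemQ : ∀ {x : G}, x ∈ QG → ∃ q : Q, ((q : C) : G) = x := fun hx => by
    obtain ⟨y, hy, rfl⟩ := hx; exact ⟨⟨y, hy⟩, rfl⟩
  obtain ⟨z', hg'⟩ := exists_gen hext
  set zz : C := ⟨z, Subgroup.mem_centralizer_singleton_iff.2 rfl⟩
  have hzz : zz = z' := by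
    refine ((hg'.center_iff zz hzQ fun y _ => ?_).resolve_left fun e => ?_)
    · exact Subtype.ext (Subgroup.mem_centralizer_singleton_iff.1 y.2).symm
    · have : z = 1 := congrArg Subtype.val e
      rw [this, orderOf_one] at hz2; omega
  subst hzz
  have gen : Gen QG z := by
    refine ⟨⟨zz, hg'.mem, rfl⟩, fun e => hg'.ne_one (Subtype.ext e), congrArg Subtype.val hg'.sq,
      ?_, ?_, ?_, ?_, ?_⟩
    · rintro _ ⟨x, hx, rfl⟩
      exact congrArg Subtype.val (hg'.comm_z x hx).eq
    · rintro _ ⟨x, hx, rfl⟩ h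
      rcases hg'.center_iff x hx fun y hy => Subtype.ext (h y ⟨y, hy, rfl⟩).eq with rfl | rfl
      exacts [Or.inl rfl, Or.inr rfl]
    · have hz : ∀ y : QG, y ∈ Subgroup.center QG ↔ (y : G) = 1 ∨ (y : G) = z := by
        rintro ⟨_, x, hx, rfl⟩
        rw [Subgroup.mem_center_iff]
        refine ⟨fun h => ?_, fun h y => ?_⟩
        · rcases hg'.center_iff x hx fun y hy =>
            Subtype.ext (congrArg Subtype.val (h ⟨_, y, hy, rfl⟩)).symm with rfl | rfl
          exacts [Or.inl rfl, Or.inr rfl]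
        · obtain ⟨_, w, hw, rfl⟩ := y
          refine Subtype.ext ?_
          show C.subtype w * C.subtype x = C.subtype x * C.subtype w
          rcases h with h | h <;> rw [show C.subtype x = (_ : G) from h]
          · simp
          · exact congrArg Subtype.val (hg'.comm_z w hw).eq
      ext y
      rw [Subgroup.mem_map, Extra2.mem_zpowers_iff (congrArg Subtype.val hg'.sq)]
      constructor
      · rintro ⟨w, hw, rfl⟩; exact (hz w).1 hw
      · intro h
        have hy : y ∈ QG := by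
          rcases h with rfl | rfl
          exacts [one_mem _, ⟨zz, hg'.mem, rfl⟩]
        exact ⟨⟨y, hy⟩, (hz _).2 h, rfl⟩
    · rintro _ ⟨x, hx, rfl⟩ _ ⟨y, hy, rfl⟩
      rcases hg'.comm x hx y hy with e | e
      exacts [Or.inl (congrArg Subtype.val e), Or.inr (congrArg Subtype.val e)]
    · rintro _ ⟨x, hx, rfl⟩
      rcases hg'.square x hx with e | e
      exacts [Or.inl (congrArg Subtype.val e), Or.inr (congrArg Subtype.val e)]
  let cl : G → (GolayPt → ℤ) ⧸ twoLeech := fun x =>
    if h : ∃ q : Q, ((q : C) : G) = x then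
      cls ((hsurj (QuotientGroup.mk h.choose)).choose : GolayPt → ℤ) else cls 0
  have hψeq : ∀ v w : leechLattice, cls (v : GolayPt → ℤ) = cls (w : GolayPt → ℤ) ↔ ψ v = ψ w := by
    intro v w
    constructor
    · intro h
      obtain ⟨u, hu, he⟩ := (cls_eq_iff _ _).1 h
      have hv : v = w + (⟨u, hu⟩ + ⟨u, hu⟩) := Subtype.ext (funext fun i => by
        have hi := congrFun he i
        simp only [Pi.sub_apply, Pi.smul_apply, nsmul_eq_mul, Nat.cast_ofNat] at hi
        show (v : GolayPt → ℤ) i = (w : GolayPt → ℤ) i + (u i + u i)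
        linarith)
      rw [hv, hadd, (hker _).2 ⟨_, rfl⟩, mul_one]
    · intro h
      have h1 : ψ (v - w) = 1 := by
        have := hadd (v - w) w
        rw [sub_add_cancel, h] at this
        exact mul_eq_right.1 this.symm
      obtain ⟨u, hu⟩ := (hker _).1 h1
      refine (cls_eq_iff _ _).2 ⟨u, u.2, ?_⟩
      rw [two_nsmul]; exact congrArg Subtype.val hu
  have hclv : ∀ (x : Q) (v : leechLattice),
      cl ((x : C) : G) = cls (v : GolayPt → ℤ) ↔ ψ v = QuotientGroup.mk x := by
    intro x v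
    have hx : ∃ q : Q, ((q : C) : G) = ((x : C) : G) := ⟨x, rfl⟩
    have hq : hx.choose = x := Subtype.ext (Subtype.ext hx.choose_spec)
    simp only [cl, dif_pos hx]
    rw [hψeq, (hsurj (QuotientGroup.mk hx.choose)).choose_spec, hq]
    exact eq_comm
  have hclrep : ∀ x : Q, ∃ v : leechLattice, cl ((x : C) : G) = cls (v : GolayPt → ℤ) := fun x => by
    obtain ⟨v, hv⟩ := hsurj (QuotientGroup.mk x); exact ⟨v, (hclv x v).2 hv⟩
  refine ⟨⟨QG, e.toMonoidHom.comp (QuotientGroup.mk' Q), cl, hz2, hle, ?_, ?_, gen, ?_, ?_, ?_, ?_,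
    ?_, ?_⟩, rfl, fun c => rfl, hclv⟩
  · intro c
    show e (QuotientGroup.mk c) = 1 ↔ _
    rw [e.map_eq_one_iff, QuotientGroup.eq_one_iff]
    exact ⟨fun h => ⟨c, h, rfl⟩, fun ⟨d, hd, h⟩ => by rwa [← Subtype.ext h]⟩
  · exact e.surjective.comp (QuotientGroup.mk'_surjective Q)
  · rw [hQG, Subgroup.card_map_of_injective C.subtype_injective, hcard]
  · intro x hx
    obtain ⟨q, rfl⟩ := hmemQ hx
    exact hclrep q
  · intro v
    obtain ⟨q, hq⟩ := QuotientGroup.mk_surjective (ψ v)
    exact ⟨_, ⟨(q : C), q.2, rfl⟩, (hclv q v).2 hq.symm⟩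
  · intro x hx y hy
    obtain ⟨q, rfl⟩ := hmemQ hx
    obtain ⟨r, rfl⟩ := hmemQ hy
    obtain ⟨v, hv⟩ := hclrep q
    obtain ⟨w, hw⟩ := hclrep r
    rw [hv, hw, ← cls_add, ← AddSubgroup.coe_add, show ((q : C) : G) * ((r : C) : G) =
      (((q * r : Q) : C) : G) from rfl, hclv, hadd, (hclv q v).1 hv, (hclv r w).1 hw]
    rfl
  · intro x hx
    obtain ⟨q, rfl⟩ := hmemQ hx
    rw [← AddSubgroup.coe_zero (H := leechLattice), hclv, (hker 0).2 ⟨0, by simp⟩, eq_comm,
      QuotientGroup.eq_one_iff, Subgroup.mem_center_iff]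
    refine ⟨fun h => ?_, fun h y => Subtype.ext ?_⟩
    · rcases hg'.center_iff q q.2 fun y hy =>
        (congrArg Subtype.val (h ⟨y, hy⟩)).symm with e' | e'
      exacts [Or.inl (congrArg Subtype.val e'), Or.inr (congrArg Subtype.val e')]
    · rcases h with h | h
      · rw [show q = 1 from Subtype.ext (Subtype.ext h)]; simp
      · rw [show q = ⟨zz, hg'.mem⟩ from Subtype.ext (Subtype.ext h)]
        exact (hg'.comm_z y y.2).eq
  · intro c g hg x hx v hv
    obtain ⟨q, rfl⟩ := hmemQ hx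
    exact (hclv ⟨c * q * c⁻¹, (inferInstance : Q.Normal).conj_mem _ q.2 c⟩ (g • v)).2
      (hact c g hg.symm v q ((hclv q v).1 hv))

end Build

end CfsgLib.Monster
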