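/-
Groups of Monster type: squares and conjugacy in the extraspecial subgroup in terms of classes of
lattice vectors.
-/
import Cfsg.Agent.Monster.Setting

set_option autoImplicit false
set_option linter.style.haveILetI false

namespace CfsgLib.Monster

open Cfsg CfsgLib.Leech CfsgLib.Extra2

attribute [local irreducible] shortVecs halfTable quarterTable codeFinset

variable {G : Type*} [Group G] {z : G} (D : Data z)

theorem bit_mul {a b : G} [DecidableEq G] (hz : z ≠ 1) (hsq : z * z = 1) (ha : a = 1 ∨ a = z)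
    (hb : b = 1 ∨ b = z) :
    (if a * b = 1 then (0 : ZMod 2) else 1) =
      (if a = 1 then 0 else 1) + (if b = 1 then 0 else 1) := by
  rcases ha with rfl | rfl <;> rcases hb with rfl | rfl <;> simp [hz, hsq]
  decide

theorem z_comm {c : G} (hc : c ∈ Subgroup.centralizer ({z} : Set G)) : c * z * c⁻¹ = z := by
  rw [Subgroup.mem_centralizer_singleton_iff.1 hc, mul_inv_cancel_right]

theorem mem_C_of_conj {c : G} (hc : c * z * c⁻¹ = z) : c ∈ Subgroup.centralizer ({z} : Set G) :=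
  Subgroup.mem_centralizer_singleton_iff.2 (mul_inv_eq_iff_eq_mul.1 hc)

include D in
theorem z_mul_z : z * z = 1 := D.gen.sq

theorem cl_one : D.cl 1 = 0 := by
  have h := D.cl_mul 1 D.Q.one_mem 1 D.Q.one_mem
  rw [one_mul] at h
  exact left_eq_add.1 h

theorem cl_mul_z {q : G} (hq : q ∈ D.Q) : D.cl (q * z) = D.cl q := by
  rw [D.cl_mul q hq z D.gen.mem, (D.cl_zero z D.gen.mem).2 (Or.inr rfl), cls_zero, add_zero]

theorem eq_or_mul_of_cl_eq {q r : G} (hq : q ∈ D.Q) (hr : r ∈ D.Q) (h : D.cl q = D.cl r) :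
    r = q ∨ r = q * z := by
  have hm : q⁻¹ * r ∈ D.Q := mul_mem (inv_mem hq) hr
  have h1 := D.cl_mul q hq _ hm
  rw [mul_inv_cancel_left, ← h] at h1
  have h0 : D.cl (q⁻¹ * r) = cls 0 := by rw [cls_zero]; exact left_eq_add.1 h1
  rcases (D.cl_zero _ hm).1 h0 with e | e
  · exact Or.inl (inv_mul_eq_one.1 e).symm
  · exact Or.inr (by rw [← e, mul_inv_cancel_left])

theorem exists_lift (c : Subgroup.centralizer ({z} : Set G)) :
    ∃ g : Co0, D.π c = QuotientGroup.mk g :=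
  ⟨_, (QuotientGroup.mk_surjective (D.π c)).choose_spec.symm⟩

theorem sqNorm_div_eq {q : G} (hq : q ∈ D.Q) {v : leechLattice}
    (hv : D.cl q = cls (v : GolayPt → ℤ)) :
    q * q = 1 ↔ ((sqNorm (v : GolayPt → ℤ) / 16 : ℤ) : ZMod 2) = 0 := by
  classical
  let r : leechLattice → G := fun v => (D.cl_surj v).choose
  have hr : ∀ v, r v ∈ D.Q ∧ D.cl (r v) = cls (v : GolayPt → ℤ) := fun v => (D.cl_surj v).choose_spec
  let bit : G → ZMod 2 := fun a => if a = 1 then 0 else 1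
  let S : G → ZMod 2 := fun x => bit (x * x)
  have hSq : ∀ {x : G}, x ∈ D.Q → ∀ v : leechLattice, D.cl x = cls (v : GolayPt → ℤ) →
      S (r v) = S x := by
    intro x hx v hv
    rcases eq_or_mul_of_cl_eq D hx (hr v).1 (hv.trans (hr v).2.symm) with e | e <;> rw [e]
    show bit (x * z * (x * z)) = bit (x * x)
    rw [show x * z * (x * z) = x * (z * x) * z by group, ← (D.gen.comm_z x hx).eq,
      show x * (x * z) * z = x * x * (z * z) by group, D.gen.sq, mul_one]
  let K : G → G → ZMod 2 := fun x y => bit (x * y * x⁻¹ * y⁻¹)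
  have hSmul : ∀ {x y : G}, x ∈ D.Q → y ∈ D.Q → S (x * y) = S x + S y + K y x := by
    intro x y hx hy
    have hc := D.gen.comm y hy x hx
    have hcy : ∀ w ∈ D.Q, y * x * y⁻¹ * x⁻¹ * w = w * (y * x * y⁻¹ * x⁻¹) := by
      intro w hw
      rcases hc with e | e <;> rw [e]
      · simp
      · exact (D.gen.comm_z w hw).symm.eq
    have e1 : x * y * (x * y) = (x * x) * (y * y) * (y * x * y⁻¹ * x⁻¹) := by
      calc x * y * (x * y) = x * ((y * x * y⁻¹ * x⁻¹) * x) * (y * y) := by group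
        _ = x * (x * (y * x * y⁻¹ * x⁻¹)) * (y * y) := by rw [hcy x hx]
        _ = x * x * ((y * x * y⁻¹ * x⁻¹) * (y * y)) := by group
        _ = _ := by rw [hcy _ (mul_mem hy hy)]; group
    show bit (x * y * (x * y)) = bit (x * x) + bit (y * y) + bit (y * x * y⁻¹ * x⁻¹)
    have h2 : x * x * (y * y) = 1 ∨ x * x * (y * y) = z := by
      rcases D.gen.square x hx with e | e <;> rcases D.gen.square y hy with e' | e' <;>
        rw [e, e'] <;> simp [D.gen.sq]
    rw [e1]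
    simp only [bit]
    rw [bit_mul D.gen.ne_one D.gen.sq h2 hc,
      bit_mul D.gen.ne_one D.gen.sq (D.gen.square x hx) (D.gen.square y hy)]
  have hK : ∀ {x y w : G}, x ∈ D.Q → y ∈ D.Q → w ∈ D.Q → K (x * y) w = K x w + K y w := by
    intro x y w hx hy hw
    have h := (commHom D.gen ⟨w, hw⟩).map_mul ⟨x, hx⟩ ⟨y, hy⟩
    have h' := congrArg Subtype.val h
    simp only [Subgroup.coe_mul, commHom_apply] at h'
    simp only [K, bit]
    rw [h', bit_mul D.gen.ne_one D.gen.sq (D.gen.comm x hx w hw) (D.gen.comm y hy w hw)]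
  have hKs : ∀ {x y : G}, K x y = K y x := by
    intro x y
    have e : x * y * x⁻¹ * y⁻¹ = 1 ↔ y * x * y⁻¹ * x⁻¹ = 1 := by
      rw [← inv_eq_one, show (x * y * x⁻¹ * y⁻¹)⁻¹ = y * x * y⁻¹ * x⁻¹ by group]
    simp only [K, bit, e]
  have hadd : ∀ v w, S (r (v + w)) = S (r v * r w) := fun v w =>
    hSq (mul_mem (hr v).1 (hr w).1) (v + w) (by
      rw [D.cl_mul _ (hr v).1 _ (hr w).1, (hr v).2, (hr w).2, ← cls_add]; rfl)
  have hmain := unique_form (fun v => S (r v)) ?_ ?_ ?_ ?_ v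
  · show q * q = 1 ↔ _
    rw [← hmain]
    show _ ↔ S (r v) = 0
    rw [hSq hq v hv]
    simp [S, bit]
  · intro v w
    refine hSq (hr v).1 _ ((hr v).2.trans ((cls_eq_iff _ _).2 ⟨-(w : GolayPt → ℤ),
      leechLattice.neg_mem w.2, ?_⟩))
    rw [AddSubgroup.coe_add, AddSubgroup.coe_add, two_nsmul]; abel
  · intro a b c
    have hab := mul_mem (hr a).1 (hr b).1
    have h3 : S (r (a + b + c)) = S (r a * r b * r c) := hSq (mul_mem hab (hr c).1) _ (by
      rw [D.cl_mul _ hab _ (hr c).1, D.cl_mul _ (hr a).1 _ (hr b).1, (hr a).2, (hr b).2, (hr c).2,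
        ← cls_add, ← cls_add]; rfl)
    simp only [h3, hadd, hSmul hab (hr c).1, hSmul (hr a).1 (hr b).1, hSmul (hr a).1 (hr c).1,
      hSmul (hr b).1 (hr c).1, hKs (x := r c) (y := r a * r b),
      hK (hr a).1 (hr b).1 (hr c).1, hKs (x := r a) (y := r c), hKs (x := r b) (y := r c)]
    generalize S (r a) = A; generalize S (r b) = B; generalize S (r c) = C
    generalize K (r b) (r a) = X; generalize K (r c) (r a) = Y; generalize K (r c) (r b) = Z
    revert A B C X Y Z; decide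
  · intro g v
    obtain ⟨c, hc⟩ := D.surj (QuotientGroup.mk g)
    have hq' : (c : G) * r v * (c : G)⁻¹ ∈ D.Q := by
      have := (D.mem_ker (c * ⟨r v, D.le_C (hr v).1⟩ * c⁻¹)).1 (by
        rw [map_mul, map_mul, (D.mem_ker ⟨r v, D.le_C (hr v).1⟩).2 (hr v).1, mul_one, ← map_mul,
          mul_inv_cancel, map_one])
      simpa using this
    rw [hSq hq' (g • v) (D.act c g hc _ (hr v).1 v (hr v).2)]
    show bit ((c : G) * r v * (c : G)⁻¹ * ((c : G) * r v * (c : G)⁻¹)) = bit (r v * r v)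
    have e : (c : G) * r v * (c : G)⁻¹ * ((c : G) * r v * (c : G)⁻¹) =
        (c : G) * (r v * r v) * (c : G)⁻¹ := by group
    rw [e]
    rcases D.gen.square _ (hr v).1 with h | h <;> rw [h]
    · simp
    · rw [z_comm c.2]
  · by_contra hall
    push Not at hall
    have hS0 : ∀ x ∈ D.Q, x * x = 1 := by
      intro x hx
      obtain ⟨v, hv⟩ := D.cl_rep x hx
      have h := hall v
      rw [hSq hx v hv] at h
      simpa [S, bit] using h
    obtain ⟨y, hy, hy1, hy2⟩ : ∃ y ∈ D.Q, y ≠ 1 ∧ y ≠ z := by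
      obtain ⟨y, hy, hcl⟩ := D.cl_surj ⟨stdC none, stdC_mem none⟩
      have hn : cls (stdC none) ≠ cls 0 :=
        cls_ne_zero (Or.inl (show sqNorm (stdC none) = 32 by decide +kernel))
      refine ⟨y, hy, ?_, ?_⟩ <;> rintro rfl
      · exact hn (hcl.symm.trans ((D.cl_zero _ hy).2 (Or.inl rfl)))
      · exact hn (hcl.symm.trans ((D.cl_zero _ hy).2 (Or.inr rfl)))
    obtain ⟨x, hx, hxy⟩ := exists_conj_mul D.gen hy hy1 hy2
    have h1 := hS0 _ (mul_mem hx hy)
    have h2 : x⁻¹ = x := inv_eq_of_mul_eq_one_right (hS0 _ hx)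
    rw [h2] at hxy
    have h3 : x * y * x * y = z := by
      rw [hxy, mul_assoc, ← (D.gen.comm_z y hy).eq, ← mul_assoc, hS0 y hy, one_mul]
    rw [mul_assoc, h1] at h3
    exact D.gen.ne_one h3.symm

theorem conj_mem {c q : G} (hc : c ∈ Subgroup.centralizer ({z} : Set G)) (hq : q ∈ D.Q) :
    c * q * c⁻¹ ∈ D.Q := by
  refine (D.mem_ker (⟨c, hc⟩ * ⟨q, D.le_C hq⟩ * ⟨c, hc⟩⁻¹)).1 ?_
  rw [map_mul, map_mul, (D.mem_ker ⟨q, D.le_C hq⟩).2 hq, mul_one, ← map_mul, mul_inv_cancel,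
    map_one]

/-- An involution in the subgroup other than the central one belongs to a class of squared length
32 or 64. -/
theorem norm_of_involution {q : G} (hq : q ∈ D.Q) (h1 : q ≠ 1) (hz : q ≠ z) (h2 : q * q = 1) :
    ∃ v : leechLattice, D.cl q = cls (v : GolayPt → ℤ) ∧
      (sqNorm (v : GolayPt → ℤ) = 32 ∨ sqNorm (v : GolayPt → ℤ) = 64) := by
  obtain ⟨v, hv⟩ := D.cl_rep q hq
  obtain ⟨w, hw, he, hn⟩ := exists_short_rep v.2
  have hv' : D.cl q = cls ((⟨w, hw⟩ : leechLattice) : GolayPt → ℤ) := hv.trans he.symm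
  refine ⟨⟨w, hw⟩, hv', ?_⟩
  rcases hn with rfl | h | h | h
  · exact ((D.cl_zero q hq).1 hv').elim (fun e => absurd e h1) (fun e => absurd e hz)
  · exact Or.inl h
  · exfalso
    have := (sqNorm_div_eq D hq hv').1 h2
    rw [show sqNorm ((⟨w, hw⟩ : leechLattice) : GolayPt → ℤ) = 48 from h] at this
    revert this; decide
  · exact Or.inr h

theorem ne_of_cls {q : G} (hq : q ∈ D.Q) {v : leechLattice} (hv : D.cl q = cls (v : GolayPt → ℤ))
    (hn : sqNorm (v : GolayPt → ℤ) = 32 ∨ sqNorm (v : GolayPt → ℤ) = 48 ∨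
      sqNorm (v : GolayPt → ℤ) = 64) : q ≠ 1 ∧ q ≠ z :=
  ⟨fun e => cls_ne_zero hn (hv.symm.trans ((D.cl_zero q hq).2 (Or.inl e))),
    fun e => cls_ne_zero hn (hv.symm.trans ((D.cl_zero q hq).2 (Or.inr e)))⟩

/-- Elements with classes in one orbit are conjugate under the centraliser. -/
theorem conj_of_cls {s t : G} (hs : s ∈ D.Q) (ht : t ∈ D.Q) (hs1 : s ≠ 1) (hsz : s ≠ z)
    {v w : leechLattice} (hv : D.cl s = cls (v : GolayPt → ℤ))
    (hw : D.cl t = cls (w : GolayPt → ℤ)) {g : Co0}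
    (hg : cls ((g • v : leechLattice) : GolayPt → ℤ) = cls (w : GolayPt → ℤ)) :
    ∃ h : Subgroup.centralizer ({z} : Set G),
      D.π h = QuotientGroup.mk g ∧ (h : G) * s * (h : G)⁻¹ = t := by
  obtain ⟨c, hc⟩ := D.surj (QuotientGroup.mk g)
  have h1 := D.act c g hc s hs v hv
  rw [hg, ← hw] at h1
  rcases eq_or_mul_of_cl_eq D (conj_mem D c.2 hs) ht h1 with e | e
  · exact ⟨c, hc, e.symm⟩
  · obtain ⟨x, hx, hxs⟩ := exists_conj_mul D.gen hs hs1 hsz
    refine ⟨c * ⟨x, D.le_C hx⟩, by rw [map_mul, hc, (D.mem_ker _).2 hx, mul_one], ?_⟩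
    rw [e, Subgroup.coe_mul]
    calc (c : G) * x * s * ((c : G) * x)⁻¹ = (c : G) * (x * s * x⁻¹) * (c : G)⁻¹ := by group
      _ = ((c : G) * s * (c : G)⁻¹) * ((c : G) * z * (c : G)⁻¹) := by rw [hxs]; group
      _ = _ := by rw [z_comm c.2]

/-- The image of the stabiliser of an element is the stabiliser of its class. -/
theorem image_fix_iff {s : G} (hs : s ∈ D.Q) (hs1 : s ≠ 1) (hsz : s ≠ z) {v : leechLattice}
    (hv : D.cl s = cls (v : GolayPt → ℤ)) (g : Co0) :
    (∃ c : Subgroup.centralizer ({z} : Set G),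
        (c : G) * s * (c : G)⁻¹ = s ∧ D.π c = QuotientGroup.mk g) ↔
      cls ((g • v : leechLattice) : GolayPt → ℤ) = cls (v : GolayPt → ℤ) := by
  constructor
  · rintro ⟨c, hcs, hc⟩
    have := D.act c g hc s hs v hv
    rw [hcs, hv] at this
    exact this.symm
  · intro h
    obtain ⟨c, hc, hcs⟩ := conj_of_cls D hs hs hs1 hsz hv hv h
    exact ⟨c, hcs, hc⟩

end CfsgLib.Monster
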