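/-
Groups of Monster type: the conjugates of the central involution inside the extraspecial subgroup.
-/
import Cfsg.Agent.Monster.Classes

set_option autoImplicit false
set_option linter.style.haveILetI false

namespace CfsgLib.Monster

open Cfsg CfsgLib.Leech CfsgLib.Extra2 MulAction

attribute [local irreducible] shortVecs halfTable quarterTable codeFinset

variable {G : Type*} [Group G] {z : G} (D : Data z)

theorem orderOf_mk_of_23 {g : Co0} (hg : orderOf g = 23) :
    orderOf (QuotientGroup.mk g : Spor.Co1) = 23 := by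
  haveI := fact23
  refine orderOf_eq_prime ?_ fun e => ?_
  · rw [← QuotientGroup.mk_pow, ← hg, pow_orderOf_eq_one]; rfl
  · have h := center_sq ((QuotientGroup.eq_one_iff g).1 e)
    rw [← pow_two] at h
    have := orderOf_dvd_of_pow_eq_one h
    rw [hg] at this
    norm_num at this

theorem exists_twentythree [Finite G] {s : G} (hs : s ∈ D.Q) {v : leechLattice}
    (hv : D.cl s = cls (v : GolayPt → ℤ))
    (hn : sqNorm (v : GolayPt → ℤ) = 32 ∨ sqNorm (v : GolayPt → ℤ) = 64) :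
    ∃ c : Subgroup.centralizer ({z} : Set G), (c : G) * s * (c : G)⁻¹ = s ∧ orderOf (c : G) = 23 := by
  haveI := fact23
  obtain ⟨hs1, hsz⟩ := ne_of_cls D hs hv (by omega)
  obtain ⟨g, hg, hfix⟩ : ∃ g : Co0, orderOf g = 23 ∧
      cls ((g • v : leechLattice) : GolayPt → ℤ) = cls (v : GolayPt → ℤ) := by
    rcases hn with hn | hn
    · obtain ⟨x, hx⟩ := exists_prime_orderOf_dvd_card' (G := stabilizer Co0 v) 23
        (by rw [card_stabilizer_32 hn]; norm_num)
      refine ⟨x, by rw [Subgroup.orderOf_coe, hx], ?_⟩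
      rw [show (x : Co0) • v = v from x.2]
    · obtain ⟨g₀, h₀⟩ := frame_transitive (v := v) (w := eightAt none) hn (sqNorm_eightAt none)
      refine ⟨g₀⁻¹ * tAut * g₀, ?_, (cls_fix_iff_mono h₀ _).2 ?_⟩
      · exact ((SemiconjBy.orderOf_eq (a := g₀) (x := g₀⁻¹ * tAut * g₀) (y := tAut)
          (by unfold SemiconjBy; group)).trans orderOf_tAut)
      · rw [show g₀ * (g₀⁻¹ * tAut * g₀) * g₀⁻¹ = tAut by group]; exact permHom_mem _
  obtain ⟨c, hcs, hc⟩ := (image_fix_iff D hs hs1 hsz hv g).2 hfix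
  have hd : 23 ∣ orderOf c := by
    have := orderOf_map_dvd D.π c
    rwa [hc, orderOf_mk_of_23 hg] at this
  refine ⟨c ^ (orderOf c / 23), ?_, ?_⟩
  · have hcomm : Commute (c : G) s := mul_inv_eq_iff_eq_mul.1 hcs
    rw [SubgroupClass.coe_pow, (hcomm.pow_left _).eq, mul_inv_cancel_right]
  · rw [Subgroup.orderOf_coe, orderOf_pow_orderOf_div (orderOf_pos c).ne' hd]

/-- An element of the centraliser commuting with an element of order 23 and squaring to one lies in
the subgroup. -/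
theorem mem_of_commute23 {u c : G} (hu : u ∈ Subgroup.centralizer ({z} : Set G))
    (hc : c ∈ Subgroup.centralizer ({z} : Set G)) (hord : orderOf c = 23) (hcu : Commute c u)
    (hu2 : u * u = 1) : u ∈ D.Q := by
  haveI := fact23
  refine (D.mem_ker ⟨u, hu⟩).1 (commute23_co1 (a := D.π ⟨c, hc⟩) ?_ ?_ ?_)
  · refine orderOf_eq_prime ?_ fun e => ?_
    · rw [← map_pow]
      have : (⟨c, hc⟩ : Subgroup.centralizer ({z} : Set G)) ^ 23 = 1 :=
        Subtype.ext (by rw [SubgroupClass.coe_pow]; exact hord ▸ pow_orderOf_eq_one c)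
      rw [this, map_one]
    · have hcQ : c ∈ D.Q := (D.mem_ker _).1 e
      have h := orderOf_dvd_natCard (⟨c, hcQ⟩ : D.Q)
      rw [Subgroup.orderOf_mk, hord, D.card] at h
      norm_num at h
  · exact (show Commute (⟨c, hc⟩ : Subgroup.centralizer ({z} : Set G)) ⟨u, hu⟩ from
      Subtype.ext hcu.eq).map D.π
  · rw [← map_mul]
    have : (⟨u, hu⟩ : Subgroup.centralizer ({z} : Set G)) * ⟨u, hu⟩ = 1 := Subtype.ext hu2
    rw [this, map_one]

variable [Finite G] {s g : G}

/-- The central involution lies in the conjugate subgroup. -/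
theorem z_mem_conj (hs : s ∈ D.Q) (hsz : s ≠ z) (hg : g * z * g⁻¹ = s) : g⁻¹ * z * g ∈ D.Q := by
  have hs2 : s * s = 1 := by rw [← hg, conj_mul, D.gen.sq, mul_one, mul_inv_cancel]
  have hs1 : s ≠ 1 := fun e => D.gen.ne_one (by rw [← hg] at e; simpa using e)
  obtain ⟨v, hv, hn⟩ := norm_of_involution D hs hs1 hsz hs2
  obtain ⟨c, hcs, hc⟩ := exists_twentythree D hs hv hn
  have hzs : z * s = s * z := (D.gen.comm_z s hs).symm.eq
  have hcC : (c : G) * z = z * (c : G) := Subgroup.mem_centralizer_singleton_iff.1 c.2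
  have hcS : (c : G) * s = s * (c : G) := mul_inv_eq_iff_eq_mul.1 hcs
  rw [← hg] at hzs hcS
  refine mem_of_commute23 D (c := g⁻¹ * c * g) ?_ ?_ ?_ ?_ ?_
  · rw [Subgroup.mem_centralizer_singleton_iff]
    calc g⁻¹ * z * g * z = g⁻¹ * (z * (g * z * g⁻¹)) * g := by group
      _ = g⁻¹ * ((g * z * g⁻¹) * z) * g := by rw [hzs]
      _ = z * (g⁻¹ * z * g) := by group
  · rw [Subgroup.mem_centralizer_singleton_iff]
    calc g⁻¹ * c * g * z = g⁻¹ * (c * (g * z * g⁻¹)) * g := by group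
      _ = g⁻¹ * ((g * z * g⁻¹) * c) * g := by rw [hcS]
      _ = z * (g⁻¹ * c * g) := by group
  · exact (SemiconjBy.orderOf_eq (a := g) (x := g⁻¹ * c * g) (y := (c : G))
      (by unfold SemiconjBy; group)).trans hc
  · show g⁻¹ * c * g * (g⁻¹ * z * g) = g⁻¹ * z * g * (g⁻¹ * c * g)
    calc g⁻¹ * c * g * (g⁻¹ * z * g) = g⁻¹ * (c * z) * g := by group
      _ = g⁻¹ * (z * c) * g := by rw [hcC]
      _ = _ := by group
  · calc g⁻¹ * z * g * (g⁻¹ * z * g) = g⁻¹ * (z * z) * g := by group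
      _ = 1 := by rw [D.gen.sq]; group

/-- The part of the conjugate subgroup centralising the central involution. -/
def conjPart (g : G) : Subgroup G :=
  D.Q.map (MulAut.conj g).toMonoidHom ⊓ Subgroup.centralizer ({z} : Set G)

/-- Its image in the quotient. -/
def imagePart (g : G) : Subgroup Spor.Co1 :=
  ((conjPart D g).subgroupOf (Subgroup.centralizer ({z} : Set G))).map D.π

omit [Finite G] in
theorem mem_map_conj_iff {x : G} : x ∈ D.Q.map (MulAut.conj g).toMonoidHom ↔ g⁻¹ * x * g ∈ D.Q := by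
  constructor
  · rintro ⟨q, hq, rfl⟩
    simpa [mul_assoc] using hq
  · intro h
    exact ⟨_, h, by simp [mul_assoc]⟩

omit [Finite G] in
theorem comm_s {x : G} (hg : g * z * g⁻¹ = s) (hx : x ∈ D.Q.map (MulAut.conj g).toMonoidHom) :
    x * s * x⁻¹ = s := by
  obtain ⟨q, hq, rfl⟩ := hx
  show g * q * g⁻¹ * s * (g * q * g⁻¹)⁻¹ = s
  rw [← hg]
  calc g * q * g⁻¹ * (g * z * g⁻¹) * (g * q * g⁻¹)⁻¹ = g * (q * z * q⁻¹) * g⁻¹ := by group
    _ = _ := by rw [(D.gen.comm_z q hq).eq, mul_inv_cancel_right]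

omit [Finite G] in
theorem inter_le_C : D.Q ⊓ D.Q.map (MulAut.conj g).toMonoidHom = D.Q ⊓ conjPart D g := by
  rw [conjPart, inf_comm (D.Q.map _), ← inf_assoc, inf_eq_left.2 D.le_C]

theorem inter_card_le (hs : s ∈ D.Q) (hsz : s ≠ z) (hg : g * z * g⁻¹ = s) :
    Nat.card ↥(D.Q ⊓ D.Q.map (MulAut.conj g).toMonoidHom) ≤ 2 ^ 13 := by
  set A := D.Q ⊓ D.Q.map (MulAut.conj g).toMonoidHom
  have hzA : z ∈ A := ⟨D.gen.mem, (mem_map_conj_iff D).2 (z_mem_conj D hs hsz hg)⟩
  have habel : A ≤ D.Q ⊓ Subgroup.centralizer (A : Set G) := by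
    refine le_inf inf_le_left fun x hx => Subgroup.mem_centralizer_iff.2 fun y hy => ?_
    refine mul_inv_eq_iff_eq_mul.1 ((mul_inv_eq_one (a := y * x * y⁻¹) (b := x)).1 ?_)
    rcases D.gen.comm y hy.1 x hx.1 with e | e
    · exact e
    exfalso
    obtain ⟨x', hx', hxe⟩ := hx.2
    obtain ⟨y', hy', hye⟩ := hy.2
    have he : y * x * y⁻¹ * x⁻¹ = g * (y' * x' * y'⁻¹ * x'⁻¹) * g⁻¹ := by
      rw [← hxe, ← hye]
      show g * y' * g⁻¹ * (g * x' * g⁻¹) * (g * y' * g⁻¹)⁻¹ * (g * x' * g⁻¹)⁻¹ = _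
      group
    rcases D.gen.comm y' hy' x' hx' with e' | e' <;> rw [e', e] at he
    · rw [mul_one, mul_inv_cancel] at he; exact D.gen.ne_one he
    · exact hsz (hg ▸ he.symm)
  have h1 := card_mul_card_centralizer D.gen hzA inf_le_left
  have h2 := Subgroup.card_le_of_le habel
  rw [D.card] at h1
  by_contra hlt
  have : (2 ^ 13 + 1) * (2 ^ 13 + 1) ≤ 2 * 2 ^ 25 :=
    h1 ▸ Nat.mul_le_mul (by omega) ((by omega : 2 ^ 13 + 1 ≤ _).trans h2)
  norm_num at this

theorem card_conjPart_ge (hs : s ∈ D.Q) (hsz : s ≠ z) (hg : g * z * g⁻¹ = s) :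
    2 ^ 24 ≤ Nat.card (conjPart D g) := by
  have hu := z_mem_conj D hs hsz hg
  have h := card_le_two_mul D.gen D.Q le_rfl hu
  rw [D.card] at h
  have e : (D.Q ⊓ Subgroup.centralizer ({g⁻¹ * z * g} : Set G)).map (MulAut.conj g).toMonoidHom =
      conjPart D g := by
    rw [conjPart, Subgroup.map_inf _ _ _ (MulAut.conj g).injective]
    congr 1
    ext x
    rw [Subgroup.mem_map, Subgroup.mem_centralizer_singleton_iff]
    constructor
    · rintro ⟨y, hy, rfl⟩
      rw [Subgroup.mem_centralizer_singleton_iff] at hy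
      show g * y * g⁻¹ * z = z * (g * y * g⁻¹)
      calc g * y * g⁻¹ * z = g * (y * (g⁻¹ * z * g)) * g⁻¹ := by group
        _ = g * ((g⁻¹ * z * g) * y) * g⁻¹ := by rw [hy]
        _ = _ := by group
    · intro hx
      refine ⟨g⁻¹ * x * g, ?_, by simp [mul_assoc]⟩
      rw [Subgroup.mem_centralizer_singleton_iff]
      calc g⁻¹ * x * g * (g⁻¹ * z * g) = g⁻¹ * (x * z) * g := by group
        _ = g⁻¹ * (z * x) * g := by rw [hx]
        _ = _ := by group
  rw [← e]
  have hcm : Nat.card ↥((D.Q ⊓ Subgroup.centralizer ({g⁻¹ * z * g} : Set G)).map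
      (MulAut.conj g).toMonoidHom) = Nat.card ↥(D.Q ⊓ Subgroup.centralizer ({g⁻¹ * z * g} : Set G)) :=
    Subgroup.card_map_of_injective (MulAut.conj g).injective
  omega

omit [Finite G] in
theorem card_conjPart :
    Nat.card (imagePart D g) * Nat.card ↥(D.Q ⊓ D.Q.map (MulAut.conj g).toMonoidHom) =
      Nat.card (conjPart D g) := by
  set B := conjPart D g with hB
  let f : B →* Spor.Co1 := D.π.comp (Subgroup.inclusion (inf_le_right : B ≤ _))
  have hr : f.range = imagePart D g := by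
    ext x
    constructor
    · rintro ⟨b, rfl⟩; exact ⟨_, b.2, rfl⟩
    · rintro ⟨c, hc, rfl⟩; exact ⟨⟨c, hc⟩, rfl⟩
  have hk : f.ker.map B.subtype = D.Q ⊓ D.Q.map (MulAut.conj g).toMonoidHom := by
    rw [inter_le_C]
    ext x
    constructor
    · rintro ⟨b, hb, rfl⟩; exact ⟨(D.mem_ker _).1 hb, b.2⟩
    · rintro ⟨hx, hxB⟩; exact ⟨⟨x, hxB⟩, (D.mem_ker _).2 hx, rfl⟩
  rw [← hk, Subgroup.card_map_of_injective B.subtype_injective, ← hr, ← Subgroup.index_ker f,
    mul_comm, Subgroup.card_mul_index]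

theorem card_image_ge (hs : s ∈ D.Q) (hsz : s ≠ z) (hg : g * z * g⁻¹ = s) :
    2 ^ 11 ≤ Nat.card (imagePart D g) := by
  have h1 := card_conjPart_ge D hs hsz hg
  have h2 := inter_card_le D hs hsz hg
  rw [← card_conjPart D] at h1
  by_contra h
  have := Nat.mul_le_mul (Nat.le_sub_one_of_lt (not_le.1 h)) h2
  omega

theorem image_two_power {q : ℕ} (hq : q.Prime) (h : q ∣ Nat.card (imagePart D g)) : q = 2 := by
  have hd : Nat.card (imagePart D g) ∣ 2 ^ 25 := by
    refine (Dvd.intro _ (card_conjPart D)).trans ?_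
    have e : Nat.card (D.Q.map (MulAut.conj g).toMonoidHom) = Nat.card D.Q :=
      Subgroup.card_map_of_injective (MulAut.conj g).injective
    rw [← D.card, ← e]
    exact Subgroup.card_dvd_of_le inf_le_left
  exact (Nat.prime_dvd_prime_iff_eq hq Nat.prime_two).1 (hq.dvd_of_dvd_pow (h.trans hd))

omit [Finite G] in
theorem image_le (hg : g * z * g⁻¹ = s) {x : Spor.Co1} (hx : x ∈ imagePart D g) :
    ∃ c : Subgroup.centralizer ({z} : Set G), (c : G) * s * (c : G)⁻¹ = s ∧ D.π c = x := by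
  obtain ⟨c, hc, rfl⟩ := hx
  exact ⟨c, comm_s D hg hc.1, rfl⟩

omit [Finite G] in
theorem image_normal (hg : g * z * g⁻¹ = s) {c : Subgroup.centralizer ({z} : Set G)}
    (hc : (c : G) * s * (c : G)⁻¹ = s) {x : Spor.Co1} (hx : x ∈ imagePart D g) :
    D.π c * x * (D.π c)⁻¹ ∈ imagePart D g := by
  obtain ⟨b, hb, rfl⟩ := hx
  refine ⟨c * b * c⁻¹, ⟨?_, (c * b * c⁻¹).2⟩, by simp⟩
  show (c : G) * b * (c : G)⁻¹ ∈ D.Q.map _
  rw [mem_map_conj_iff]
  have h1 : g⁻¹ * c * g ∈ Subgroup.centralizer ({z} : Set G) := by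
    refine mem_C_of_conj ?_
    calc g⁻¹ * c * g * z * (g⁻¹ * c * g)⁻¹ = g⁻¹ * (c * (g * z * g⁻¹) * (c : G)⁻¹) * g := by group
      _ = z := by rw [hg, hc, ← hg]; group
  have h2 := conj_mem D h1 ((mem_map_conj_iff D).1 hb.1)
  rw [show g⁻¹ * ((c : G) * b * (c : G)⁻¹) * g =
    g⁻¹ * c * g * (g⁻¹ * b * g) * (g⁻¹ * c * g)⁻¹ by group]
  exact h2

/-- A conjugate of the central involution in the subgroup has class of squared length 64. -/
theorem norm_of_conj (hs : s ∈ D.Q) (hsz : s ≠ z) (hg : g * z * g⁻¹ = s) :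
    ∃ v : leechLattice, D.cl s = cls (v : GolayPt → ℤ) ∧ sqNorm (v : GolayPt → ℤ) = 64 := by
  have hs2 : s * s = 1 := by rw [← hg, conj_mul, D.gen.sq, mul_one, mul_inv_cancel]
  have hs1 : s ≠ 1 := fun e => D.gen.ne_one (by rw [← hg] at e; simpa using e)
  obtain ⟨v, hv, hn | hn⟩ := norm_of_involution D hs hs1 hsz hs2
  swap; · exact ⟨v, hv, hn⟩
  exfalso
  haveI := (isCo2_stab hn).1
  let φ : stabilizer Co0 v →* Spor.Co1 :=
    (QuotientGroup.mk' (Subgroup.center Co0)).comp (stabilizer Co0 v).subtype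
  have hfix : ∀ x : stabilizer Co0 v, ∃ c : Subgroup.centralizer ({z} : Set G),
      (c : G) * s * (c : G)⁻¹ = s ∧ D.π c = φ x := fun x =>
    (image_fix_iff D hs hs1 hsz hv (x : Co0)).2 (by rw [show (x : Co0) • v = v from x.2])
  have hinj : Function.Injective φ := by
    refine (injective_iff_map_eq_one φ).2 fun x hx => ?_
    have hc : (x : Co0) ∈ (Subgroup.center Co0 : Set Co0) := (QuotientGroup.eq_one_iff _).1 hx
    rw [center_eq] at hc
    rcases hc with e | e
    · exact Subtype.ext e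
    · exfalso
      have hx2 : (x : Co0) • v = v := x.2
      rw [show (x : Co0) = negAut from e, negAut_smul] at hx2
      have h0 : (v : GolayPt → ℤ) = 0 := funext fun i => by
        have := congrFun (congrArg Subtype.val hx2) i
        simp only [AddSubgroup.coe_neg, Pi.neg_apply] at this
        show _ = (0 : ℤ)
        omega
      rw [h0] at hn
      simp [sqNorm] at hn
  have hN : ((imagePart D g).comap φ).Normal := ⟨fun x hx y => by
    obtain ⟨c, hc, hcy⟩ := hfix y
    show φ (y * x * y⁻¹) ∈ imagePart D g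
    rw [map_mul, map_mul, map_inv, ← hcy]
    exact image_normal D hg hc hx⟩
  have hrange : imagePart D g ≤ φ.range := fun x hx => by
    obtain ⟨c, hc, rfl⟩ := image_le D hg hx
    obtain ⟨h, hh⟩ := exists_lift D c
    rcases fix_or_neg_of_cls hn ((image_fix_iff D hs hs1 hsz hv h).1 ⟨c, hc, hh⟩) with e | e
    · exact ⟨⟨h, e⟩, hh.symm⟩
    · refine ⟨⟨negAut * h, ?_⟩, ?_⟩
      · show (negAut * h) • v = v
        rw [mul_smul, e, negAut_smul, neg_neg]
      · show QuotientGroup.mk (negAut * h) = _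
        rw [hh, QuotientGroup.mk_mul, (QuotientGroup.eq_one_iff negAut).2 negAut_central, one_mul]
  rcases hN.eq_bot_or_eq_top with h | h
  · have hge := card_image_ge D hs hsz hg
    have hb : imagePart D g = ⊥ := by
      rw [← Subgroup.map_comap_eq_self hrange, h, Subgroup.map_bot]
    rw [hb, Subgroup.card_bot] at hge
    norm_num at hge
  · have h1 : Nat.card (stabilizer Co0 v) ∣ Nat.card (imagePart D g) := by
      rw [← Subgroup.map_comap_eq_self hrange, h, Subgroup.card_map_of_injective hinj,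
        Subgroup.card_top]
    rw [card_stabilizer_32 hn] at h1
    have := image_two_power D (g := g) (q := 3) (by norm_num)
      ((by norm_num : 3 ∣ 42305421312000).trans h1)
    omega

/-- The structure of the stabiliser of a conjugate of the central involution, with respect to a
chosen transport of its class to the standard one. -/
theorem conj_structure_at (hs : s ∈ D.Q) (hsz : s ≠ z) (hg : g * z * g⁻¹ = s) {v : leechLattice}
    (hv : D.cl s = cls (v : GolayPt → ℤ)) (hn : sqNorm (v : GolayPt → ℤ) = 64) {g₀ : Co0}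
    (h₀ : g₀ • v = eightAt none) :
    (∀ w : golayCode, (QuotientGroup.mk (g₀⁻¹ * signAut w * g₀) : Spor.Co1) ∈ imagePart D g) ∧
    Nat.card (imagePart D g) = 2 ^ 11 ∧
    Nat.card ↥(D.Q ⊓ D.Q.map (MulAut.conj g).toMonoidHom) = 2 ^ 13 ∧
    (∀ x ∈ imagePart D g, ∀ y ∈ imagePart D g, x * y = y * x) ∧
    (∀ x ∈ imagePart D g, x ^ 2 = 1) ∧
    ∃ K : Subgroup Spor.Co1,
      (∀ x ∈ K, ∃ c : Subgroup.centralizer ({z} : Set G),
        (c : G) * s * (c : G)⁻¹ = s ∧ D.π c = x) ∧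
      (∀ x ∈ K, x ∈ imagePart D g → x = 1) ∧
      (∀ c : Subgroup.centralizer ({z} : Set G), (c : G) * s * (c : G)⁻¹ = s →
        ∃ x ∈ imagePart D g, ∃ y ∈ K, D.π c = x * y) ∧
      Nonempty (K ≃* M24) := by
  obtain ⟨hs1, -⟩ := ne_of_cls D hs hv (by omega)
  let φ : monoGroup →* Spor.Co1 :=
    (QuotientGroup.mk' (Subgroup.center Co0)).comp ((MulAut.conj g₀⁻¹).toMonoidHom.comp monoGroup.subtype)
  have hφ : ∀ m : monoGroup, φ m = QuotientGroup.mk (g₀⁻¹ * m * g₀) := fun m => by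
    show QuotientGroup.mk (g₀⁻¹ * m * g₀⁻¹⁻¹) = _
    rw [inv_inv]
  have hfix : ∀ m : monoGroup, ∃ c : Subgroup.centralizer ({z} : Set G),
      (c : G) * s * (c : G)⁻¹ = s ∧ D.π c = φ m := fun m => by
    rw [hφ]
    refine (image_fix_iff D hs hs1 hsz hv _).2 ((cls_fix_iff_mono h₀ _).2 ?_)
    rw [show g₀ * (g₀⁻¹ * (m : Co0) * g₀) * g₀⁻¹ = m by group]
    exact m.2
  have hrange : ∀ c : Subgroup.centralizer ({z} : Set G), (c : G) * s * (c : G)⁻¹ = s →
      ∃ m, φ m = D.π c := fun c hc => by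
    obtain ⟨h, hh⟩ := exists_lift D c
    refine ⟨⟨g₀ * h * g₀⁻¹,
      (cls_fix_iff_mono h₀ h).1 ((image_fix_iff D hs hs1 hsz hv h).1 ⟨c, hc, hh⟩)⟩, ?_⟩
    refine (hφ _).trans (Eq.trans ?_ hh.symm)
    exact congrArg _ (show g₀⁻¹ * (g₀ * h * g₀⁻¹) * g₀ = h by group)
  have hker : ∀ m : monoGroup, φ m = 1 → (m : Co0) ∈ Subgroup.center Co0 := fun m hm => by
    rw [hφ, QuotientGroup.eq_one_iff] at hm
    have := Subgroup.Normal.conj_mem inferInstance _ hm g₀
    rwa [show g₀ * (g₀⁻¹ * (m : Co0) * g₀) * g₀⁻¹ = m by group] at this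
  set N := (imagePart D g).comap φ with hNdef
  haveI hN : N.Normal := ⟨fun x hx y => by
    obtain ⟨c, hc, hcy⟩ := hfix y
    show φ (y * x * y⁻¹) ∈ imagePart D g
    rw [map_mul, map_mul, map_inv, ← hcy]
    exact image_normal D hg hc hx⟩
  have hsub : imagePart D g ≤ φ.range := fun x hx => by
    obtain ⟨c, hc, rfl⟩ := image_le D hg hx
    exact MonoidHom.mem_range.2 (hrange c hc)
  have h2 : ∀ q : ℕ, q.Prime → q ∣ Nat.card N → q = 2 := by
    intro q hq hqN
    haveI : Fact q.Prime := ⟨hq⟩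
    obtain ⟨⟨n, hnN⟩, hno⟩ := exists_prime_orderOf_dvd_card' q hqN
    rw [Subgroup.orderOf_mk] at hno
    have hdq : orderOf (φ n) ∣ q := hno ▸ orderOf_map_dvd φ n
    rcases (Nat.dvd_prime hq).1 hdq with e | e
    · have hc := center_sq (hker n (orderOf_eq_one_iff.1 e))
      have : n ^ 2 = 1 := Subtype.ext (by rw [SubgroupClass.coe_pow, pow_two]; exact hc)
      exact (Nat.prime_dvd_prime_iff_eq hq Nat.prime_two).1 (hno ▸ orderOf_dvd_of_pow_eq_one this)
    · refine image_two_power D (g := g) hq ?_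
      rw [← e, ← Subgroup.orderOf_mk (φ n) (show φ n ∈ imagePart D g from hnN)]
      exact orderOf_dvd_natCard _
  have hsigns : ∀ n ∈ N, ∃ w, (n : Co0) = signAut w := fun n hn' => signs_of_normal h2 hn'
  let f : N → golayCode := fun n => (hsigns n n.2).choose
  have hf : Function.Injective f := fun a b h => by
    refine Subtype.ext (Subtype.ext ?_)
    rw [(hsigns a a.2).choose_spec, (hsigns b b.2).choose_spec]
    exact congrArg signAut h
  haveI : Finite golayCode := Nat.finite_of_card_ne_zero (by rw [card_golayCode']; norm_num)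
  have hNle : Nat.card N ≤ 4096 := card_golayCode' ▸ Nat.card_le_card_of_injective f hf
  have hmapN : N.map φ = imagePart D g := Subgroup.map_comap_eq_self hsub
  let φN : N →* Spor.Co1 := φ.comp N.subtype
  have hEN : 2 * Nat.card (imagePart D g) ≤ Nat.card N := by
    have hr : φN.range = imagePart D g := by
      rw [← hmapN, MonoidHom.range_comp, Subgroup.range_subtype]
    have hne : negAut ∈ monoGroup := signAut_one ▸ signAut_mem _
    have h1 : φ ⟨negAut, hne⟩ = 1 := by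
      rw [hφ, QuotientGroup.eq_one_iff]
      have := Subgroup.Normal.conj_mem inferInstance _ negAut_central g₀⁻¹
      rwa [inv_inv] at this
    have hkcard : 2 ≤ Nat.card φN.ker := by
      have hmem : (⟨negAut, hne⟩ : monoGroup) ∈ N := by
        show φ ⟨negAut, hne⟩ ∈ imagePart D g
        rw [h1]; exact one_mem _
      haveI : Nontrivial φN.ker := ⟨⟨⟨⟨⟨negAut, hne⟩, hmem⟩, h1⟩,
        1, fun e => negAut_ne_one (congrArg (fun x : φN.ker => (((x : N) : monoGroup) : Co0)) e)⟩⟩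
      exact Finite.one_lt_card
    calc 2 * Nat.card (imagePart D g) ≤ Nat.card φN.ker * φN.ker.index := by
          rw [Subgroup.index_ker, hr]; exact Nat.mul_le_mul_right _ hkcard
      _ = Nat.card N := Subgroup.card_mul_index _
  have hge := card_image_ge D hs hsz hg
  have hE : Nat.card (imagePart D g) = 2 ^ 11 := by omega
  have hA : Nat.card ↥(D.Q ⊓ D.Q.map (MulAut.conj g).toMonoidHom) = 2 ^ 13 := by
    have h1 := card_conjPart_ge D hs hsz hg
    have h2' := inter_card_le D hs hsz hg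
    rw [← card_conjPart D, hE] at h1
    omega
  have hbij : Function.Bijective f :=
    (Nat.bijective_iff_injective_and_card f).2 ⟨hf, by rw [card_golayCode']; omega⟩
  have hall : ∀ w, (⟨signAut w, signAut_mem w⟩ : monoGroup) ∈ N := fun w => by
    obtain ⟨n, rfl⟩ := hbij.2 w
    rw [show (⟨signAut (f n), signAut_mem _⟩ : monoGroup) = n from
      Subtype.ext (hsigns n n.2).choose_spec.symm]
    exact n.2
  have helt : ∀ x ∈ imagePart D g, ∃ w, x = φ ⟨signAut w, signAut_mem w⟩ := fun x hx => by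
    rw [← hmapN] at hx
    obtain ⟨n, hnN, rfl⟩ := hx
    obtain ⟨w, hw⟩ := hsigns n hnN
    exact ⟨w, congrArg φ (Subtype.ext hw)⟩
  let ι : M24 →* monoGroup := permHom.codRestrict monoGroup permHom_mem
  have hinj : Function.Injective (φ.comp ι) := (injective_iff_map_eq_one _).2 fun σ hσ =>
    permHom_central (hker (ι σ) hσ)
  refine ⟨fun w => hφ ⟨signAut w, signAut_mem w⟩ ▸ hall w, hE, hA, ?_, ?_, (φ.comp ι).range, ?_, ?_, ?_,
    ⟨(MonoidHom.ofInjective hinj).symm⟩⟩
  · intro x hx y hy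
    obtain ⟨w, rfl⟩ := helt x hx
    obtain ⟨w', rfl⟩ := helt y hy
    rw [← map_mul, ← map_mul]
    exact congrArg φ (Subtype.ext (by
      show signAut w * signAut w' = signAut w' * signAut w
      rw [signAut_mul, signAut_mul, add_comm]))
  · intro x hx
    obtain ⟨w, rfl⟩ := helt x hx
    rw [← map_pow]
    refine (congrArg φ (Subtype.ext ?_)).trans (map_one φ)
    rw [SubgroupClass.coe_pow, pow_two]
    exact mul_eq_one_iff_eq_inv.2 (signAut_inv w).symm
  · rintro x ⟨σ, rfl⟩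
    exact hfix (ι σ)
  · rintro x ⟨σ, rfl⟩ hx
    obtain ⟨w, hw⟩ := hsigns (ι σ) hx
    have hw' : monoAut (0, σ) = monoAut (w, 1) := by
      rw [← permHom_eq_monoAut, ← signAut_eq_monoAut]; exact hw
    rw [show σ = 1 from congrArg Prod.snd (monoAut_injective hw'), map_one]
  · intro c hc
    obtain ⟨m, hm⟩ := hrange c hc
    obtain ⟨⟨w, σ⟩, hwσ⟩ := (mem_monoGroup_iff (m : Co0)).1 m.2
    refine ⟨φ ⟨signAut w, signAut_mem w⟩, hall w, φ (ι σ), ⟨σ, rfl⟩, ?_⟩
    rw [← map_mul, ← hm]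
    exact congrArg φ (Subtype.ext hwσ.symm)

/-- The structure of the stabiliser of a conjugate of the central involution. -/
theorem conj_structure (hs : s ∈ D.Q) (hsz : s ≠ z) (hg : g * z * g⁻¹ = s) :
    Nat.card (imagePart D g) = 2 ^ 11 ∧
    Nat.card ↥(D.Q ⊓ D.Q.map (MulAut.conj g).toMonoidHom) = 2 ^ 13 ∧
    (∀ x ∈ imagePart D g, ∀ y ∈ imagePart D g, x * y = y * x) ∧
    (∀ x ∈ imagePart D g, x ^ 2 = 1) ∧
    ∃ K : Subgroup Spor.Co1,
      (∀ x ∈ K, ∃ c : Subgroup.centralizer ({z} : Set G),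
        (c : G) * s * (c : G)⁻¹ = s ∧ D.π c = x) ∧
      (∀ x ∈ K, x ∈ imagePart D g → x = 1) ∧
      (∀ c : Subgroup.centralizer ({z} : Set G), (c : G) * s * (c : G)⁻¹ = s →
        ∃ x ∈ imagePart D g, ∃ y ∈ K, D.π c = x * y) ∧
      Nonempty (K ≃* M24) := by
  obtain ⟨v, hv, hn⟩ := norm_of_conj D hs hsz hg
  obtain ⟨g₀, h₀⟩ := frame_transitive (v := v) (w := eightAt none) hn (sqNorm_eightAt none)
  exact (conj_structure_at D hs hsz hg hv hn h₀).2

/-- Conjugates of the central involution other than itself in the subgroup: exactly the classes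
of squared length 64. -/
theorem isConj_iff_norm (hex : ∃ g : G, g * z * g⁻¹ ∈ D.Q ∧ g * z * g⁻¹ ≠ z) {x : G} (hx : x ∈ D.Q) :
    (IsConj z x ∧ x ≠ z) ↔
      ∃ v : leechLattice, sqNorm (v : GolayPt → ℤ) = 64 ∧ D.cl x = cls (v : GolayPt → ℤ) := by
  constructor
  · rintro ⟨h, hxz⟩
    obtain ⟨g, hg⟩ := isConj_iff.1 h
    obtain ⟨v, hv, hn⟩ := norm_of_conj D hx hxz hg
    exact ⟨v, hn, hv⟩
  · rintro ⟨v, hn, hv⟩
    obtain ⟨g, hgQ, hgne⟩ := hex
    obtain ⟨w, hw, hwn⟩ := norm_of_conj D hgQ hgne rfl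
    obtain ⟨h₀, hh₀⟩ := frame_transitive (v := w) (w := v) hwn hn
    have h1 := ne_of_cls D hgQ hw (by omega)
    obtain ⟨c, -, hc⟩ := conj_of_cls D hgQ hx h1.1 h1.2 hw hv (g := h₀) (by rw [hh₀])
    exact ⟨isConj_iff.2 ⟨c * g, by rw [← hc]; group⟩, (ne_of_cls D hx hv (by omega)).2⟩

/-- An involution of the subgroup not conjugate to the central one has a class of squared length
32. -/
theorem norm_of_not_conj (hex : ∃ g : G, g * z * g⁻¹ ∈ D.Q ∧ g * z * g⁻¹ ≠ z) {x : G}
    (hx : x ∈ D.Q) (h2 : orderOf x = 2) (hnc : ¬ IsConj z x) :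
    x ≠ 1 ∧ x ≠ z ∧
      ∃ v : leechLattice, D.cl x = cls (v : GolayPt → ℤ) ∧ sqNorm (v : GolayPt → ℤ) = 32 := by
  have h1 : x ≠ 1 := fun e => by rw [e, orderOf_one] at h2; omega
  have hz : x ≠ z := fun e => hnc (e ▸ IsConj.refl _)
  have hsq : x * x = 1 := by rw [← pow_two, ← h2, pow_orderOf_eq_one]
  obtain ⟨v, hv, hn | hn⟩ := norm_of_involution D hx h1 hz hsq
  · exact ⟨h1, hz, v, hv, hn⟩
  · exact absurd ((isConj_iff_norm D hex hx).2 ⟨v, hn, hv⟩).1 hnc

end CfsgLib.Monster
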