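/-
Groups of Monster type: changing the frame of the dictionary, and elements of odd prime order of
the centraliser of the central involution.
-/
import Cfsg.Agent.Monster.Conjugates
import Cfsg.Agent.Char.PrimeNormBound

set_option autoImplicit false
set_option linter.style.haveILetI false

namespace CfsgLib.Monster

open Cfsg CfsgLib.Leech CfsgLib.Extra2

attribute [local irreducible] shortVecs halfTable quarterTable codeFinset

variable {G : Type*} [Group G] {z : G} (D : Data z)

open Classical in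
/-- The classes seen from another frame. -/
noncomputable def twistCl (g₁ : Co0) (q : G) : (GolayPt → ℤ) ⧸ twoLeech :=
  if h : ∃ v : leechLattice, D.cl q = cls (v : GolayPt → ℤ) then
    cls ((g₁⁻¹ • h.choose : leechLattice) : GolayPt → ℤ)
  else cls 0

theorem twistCl_eq (g₁ : Co0) {q : G} {v : leechLattice} (hv : D.cl q = cls (v : GolayPt → ℤ)) :
    twistCl D g₁ q = cls ((g₁⁻¹ • v : leechLattice) : GolayPt → ℤ) := by
  have h : ∃ v : leechLattice, D.cl q = cls (v : GolayPt → ℤ) := ⟨v, hv⟩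
  rw [twistCl, dif_pos h]
  exact cls_smul _ (h.choose_spec.symm.trans hv)

/-- The dictionary composed with an automorphism of the lattice. -/
noncomputable def twist (g₁ : Co0) : Data z where
  Q := D.Q
  π := (MulAut.conj (QuotientGroup.mk g₁ : Spor.Co1)⁻¹).toMonoidHom.comp D.π
  cl := twistCl D g₁
  order_z := D.order_z
  le_C := D.le_C
  mem_ker c := by
    rw [← D.mem_ker c]
    exact (MulAut.conj (QuotientGroup.mk g₁ : Spor.Co1)⁻¹).map_eq_one_iff
  surj := (MulAut.conj (QuotientGroup.mk g₁ : Spor.Co1)⁻¹).surjective.comp D.surj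
  gen := D.gen
  card := D.card
  cl_rep q hq := by
    obtain ⟨v, hv⟩ := D.cl_rep q hq
    exact ⟨_, twistCl_eq D g₁ hv⟩
  cl_surj v := by
    obtain ⟨q, hq, hv⟩ := D.cl_surj (g₁ • v)
    exact ⟨q, hq, by rw [twistCl_eq D g₁ hv, inv_smul_smul]⟩
  cl_mul q hq r hr := by
    obtain ⟨v, hv⟩ := D.cl_rep q hq
    obtain ⟨w, hw⟩ := D.cl_rep r hr
    have h : D.cl (q * r) = cls ((v + w : leechLattice) : GolayPt → ℤ) := by
      rw [D.cl_mul q hq r hr, hv, hw, AddSubgroup.coe_add, cls_add]
    rw [twistCl_eq D g₁ hv, twistCl_eq D g₁ hw, twistCl_eq D g₁ h, smul_add', AddSubgroup.coe_add,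
      cls_add]
  cl_zero q hq := by
    obtain ⟨v, hv⟩ := D.cl_rep q hq
    rw [twistCl_eq D g₁ hv, ← D.cl_zero q hq, hv]
    have h0 : cls (0 : GolayPt → ℤ) = cls ((0 : leechLattice) : GolayPt → ℤ) := rfl
    constructor
    · intro h
      rw [h0] at h ⊢
      have := cls_smul g₁ h
      rwa [smul_inv_smul, smul_zero'] at this
    · intro h
      rw [h0] at h ⊢
      have := cls_smul g₁⁻¹ h
      rwa [smul_zero'] at this
  act c g hc q hq v hv := by
    obtain ⟨w, hw⟩ := D.cl_rep q hq
    have hcw : cls ((g₁⁻¹ • w : leechLattice) : GolayPt → ℤ) = cls (v : GolayPt → ℤ) :=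
      (twistCl_eq D g₁ hw).symm.trans hv
    have hπ : D.π c = QuotientGroup.mk (g₁ * g * g₁⁻¹) := by
      have h := congrArg (fun x => (QuotientGroup.mk g₁ : Spor.Co1) * x * (QuotientGroup.mk g₁ : Spor.Co1)⁻¹) hc
      simp only [MonoidHom.comp_apply, MulEquiv.toMonoidHom_eq_coe, MonoidHom.coe_coe,
        MulAut.conj_apply, inv_inv] at h
      rw [show (QuotientGroup.mk (g₁ * g * g₁⁻¹) : Spor.Co1) =
        QuotientGroup.mk g₁ * QuotientGroup.mk g * (QuotientGroup.mk g₁)⁻¹ from rfl, ← h]
      group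
    rw [twistCl_eq D g₁ (D.act c _ hπ q hq w hw)]
    rw [mul_smul, mul_smul, inv_smul_smul]
    exact cls_smul g hcw

@[simp] theorem twist_Q (g₁ : Co0) : (twist D g₁).Q = D.Q := rfl

theorem twist_π (g₁ : Co0) (c : Subgroup.centralizer ({z} : Set G)) :
    (twist D g₁).π c =
      (QuotientGroup.mk g₁ : Spor.Co1)⁻¹ * D.π c * (QuotientGroup.mk g₁ : Spor.Co1) := by
  show (QuotientGroup.mk g₁ : Spor.Co1)⁻¹ * D.π c * ((QuotientGroup.mk g₁ : Spor.Co1)⁻¹)⁻¹ = _
  rw [inv_inv]

variable [Finite G]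

/-- An element of odd prime order of the centraliser lies outside the subgroup. -/
theorem orderOf_π {r : ℕ} (hr : r.Prime) (hr2 : r ≠ 2) {b : Subgroup.centralizer ({z} : Set G)}
    (hb : orderOf (b : G) = r) : orderOf (D.π b) = r := by
  haveI : Fact r.Prime := ⟨hr⟩
  have hb' : orderOf b = r := by rw [← hb, Subgroup.orderOf_coe]
  refine orderOf_eq_prime (by rw [← map_pow, ← hb', pow_orderOf_eq_one, map_one]) fun h => ?_
  have hq := Subgroup.orderOf_dvd_natCard D.Q ((D.mem_ker b).1 h)
  rw [hb, D.card] at hq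
  exact hr2 ((Nat.prime_dvd_prime_iff_eq hr Nat.prime_two).1 (hr.dvd_of_dvd_pow hq))

/-- The kernel part of a subgroup of the centraliser has two-power order. -/
theorem card_ker_dvd (M : Subgroup (Subgroup.centralizer ({z} : Set G))) :
    Nat.card (D.π.comp M.subtype).ker ∣ 2 ^ 25 := by
  rw [← D.card]
  let F : (D.π.comp M.subtype).ker →* D.Q :=
    { toFun := fun x => ⟨((x : M) : Subgroup.centralizer ({z} : Set G)), (D.mem_ker _).1 x.2⟩
      map_one' := rfl
      map_mul' := fun _ _ => rfl }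
  refine Subgroup.card_dvd_of_injective F fun a b h => Subtype.ext (Subtype.ext (Subtype.ext ?_))
  exact congrArg (fun x : D.Q => (x : G)) h

theorem card_dvd_of_image (M : Subgroup (Subgroup.centralizer ({z} : Set G)))
    {I : Subgroup Spor.Co1} (h : ∀ x ∈ M, D.π x ∈ I) : Nat.card M ∣ 2 ^ 25 * Nat.card I := by
  rw [Subgroup.card_eq_card_quotient_mul_card_subgroup (D.π.comp M.subtype).ker, mul_comm,
    Nat.card_congr (QuotientGroup.quotientKerEquivRange (D.π.comp M.subtype)).toEquiv]
  refine Nat.mul_dvd_mul (card_ker_dvd D M) (Subgroup.card_dvd_of_le ?_)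
  rintro _ ⟨x, rfl⟩
  exact h x x.2

/-- An element conjugating an element of odd prime order to a power modulo the subgroup can be
corrected inside a given subgroup to one conjugating it to that power. -/
theorem adjust {r : ℕ} (hr : r.Prime) (hr2 : r ≠ 2) {M : Subgroup G}
    {b c : Subgroup.centralizer ({z} : Set G)}
    (hb : (b : G) ∈ M) (hc : (c : G) ∈ M) (hbo : orderOf (b : G) = r) {a : ℕ}
    (h : D.π c * D.π b * (D.π c)⁻¹ = D.π b ^ a) :
    ∃ c' : Subgroup.centralizer ({z} : Set G), (c' : G) ∈ M ∧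
      (c' : G) * b * (c' : G)⁻¹ = (b : G) ^ a ∧
      ∃ j : ℤ, D.π c' = D.π b ^ j * D.π c := by
  haveI : Fact r.Prime := ⟨hr⟩
  have hπo := orderOf_π D hr hr2 hbo
  set E : Subgroup (Subgroup.centralizer ({z} : Set G)) :=
    M.subgroupOf _ ⊓ (Subgroup.zpowers (D.π b)).comap D.π with hE
  have hcard : ¬ r ^ 2 ∣ Nat.card E := by
    intro hd
    have := hd.trans (card_dvd_of_image D E (I := Subgroup.zpowers (D.π b)) fun x hx => hx.2)
    rw [Nat.card_zpowers, hπo, pow_two] at this
    have h2 := Nat.dvd_of_mul_dvd_mul_right hr.pos this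
    exact hr2 ((Nat.prime_dvd_prime_iff_eq hr Nat.prime_two).1 (hr.dvd_of_dvd_pow h2))
  have hbE : b ∈ E := ⟨hb, Subgroup.mem_zpowers _⟩
  have hb''E : c * b * c⁻¹ ∈ E := by
    refine ⟨?_, ?_⟩
    · show (c : G) * b * (c : G)⁻¹ ∈ M
      exact mul_mem (mul_mem hc hb) (inv_mem hc)
    · show D.π (c * b * c⁻¹) ∈ Subgroup.zpowers (D.π b)
      rw [map_mul, map_mul, map_inv, h]
      exact Subgroup.npow_mem_zpowers _ _
  have ho : orderOf (⟨b, hbE⟩ : E) = r := by
    rw [← hbo, ← orderOf_injective ((Subgroup.centralizer ({z} : Set G)).subtype.comp E.subtype)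
      (fun x y e => Subtype.ext (Subtype.ext e))]
    rfl
  have ho' : orderOf (⟨c * b * c⁻¹, hb''E⟩ : E) = r := by
    rw [← hbo, ← orderOf_injective ((Subgroup.centralizer ({z} : Set G)).subtype.comp E.subtype)
      (fun x y e => Subtype.ext (Subtype.ext e))]
    exact (SemiconjBy.orderOf_eq (a := (c : G)) (x := (b : G))
      (y := (c : G) * b * (c : G)⁻¹) (by unfold SemiconjBy; group)).symm
  obtain ⟨k, -, hk⟩ := PrimeNorm.exists_isConj_pow hcard ho ho'
  obtain ⟨e, he⟩ := isConj_iff.1 hk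
  have he' : (e : Subgroup.centralizer ({z} : Set G)) * b ^ k * (e : Subgroup.centralizer ({z} : Set G))⁻¹ =
      c * b * c⁻¹ := congrArg Subtype.val he
  obtain ⟨j, hj⟩ := Subgroup.mem_zpowers_iff.1 (show D.π e ∈ Subgroup.zpowers (D.π b) from e.2.2)
  have hka : (b : G) ^ k = (b : G) ^ a := by
    have e1 := congrArg D.π he'
    rw [map_mul, map_mul, map_inv, map_mul, map_mul, map_inv, map_pow, h, ← hj,
      ← zpow_natCast, ← zpow_natCast, ← zpow_add, ← zpow_neg, ← zpow_add,
      show j + (k : ℤ) + -j = (k : ℤ) by ring, zpow_natCast, zpow_natCast,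
      pow_eq_pow_iff_modEq, hπo, ← hbo] at e1
    exact pow_eq_pow_iff_modEq.2 e1
  refine ⟨(e : Subgroup.centralizer ({z} : Set G))⁻¹ * c, ?_, ?_, -j, ?_⟩
  · exact mul_mem (inv_mem e.2.1) hc
  · rw [← hka]
    have e2 : (((e : Subgroup.centralizer ({z} : Set G))⁻¹ * c) * b *
        ((e : Subgroup.centralizer ({z} : Set G))⁻¹ * c)⁻¹) = b ^ k := by
      calc _ = (e : Subgroup.centralizer ({z} : Set G))⁻¹ * (c * b * c⁻¹) *
            (e : Subgroup.centralizer ({z} : Set G)) := by group
        _ = b ^ k := by rw [← he']; group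
    exact congrArg Subtype.val e2
  · rw [map_mul, map_inv, ← hj, zpow_neg]

omit [Finite G] in
/-- An element of the subgroup commutes with an element of odd order exactly when its class is
fixed. -/
theorem comm_iff_fixed {b : Subgroup.centralizer ({z} : Set G)} {ρ : Co0}
    (hρ : D.π b = QuotientGroup.mk ρ) (hodd : Odd (orderOf (b : G))) {q : G} (hq : q ∈ D.Q)
    {v : leechLattice} (hv : D.cl q = cls (v : GolayPt → ℤ)) :
    (b : G) * q = q * (b : G) ↔
      cls ((ρ • v : leechLattice) : GolayPt → ℤ) = cls (v : GolayPt → ℤ) := by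
  have hact := D.act b ρ hρ q hq v hv
  constructor
  · intro h
    rw [h, mul_inv_cancel_right, hv] at hact
    exact hact.symm
  · intro h
    rw [h, ← hv] at hact
    rcases eq_or_mul_of_cl_eq D hq (conj_mem D b.2 hq) hact.symm with e | e
    · exact mul_inv_eq_iff_eq_mul.1 e
    · exfalso
      have hz : ∀ k : ℕ, (b : G) ^ k * q * ((b : G) ^ k)⁻¹ = q * z ^ k := by
        intro k
        induction k with
        | zero => simp
        | succ k ih =>
          rw [pow_succ', show (b : G) * (b : G) ^ k * q * ((b : G) * (b : G) ^ k)⁻¹ =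
            (b : G) * ((b : G) ^ k * q * ((b : G) ^ k)⁻¹) * (b : G)⁻¹ by group, ih,
            show (b : G) * (q * z ^ k) * (b : G)⁻¹ =
              ((b : G) * q * (b : G)⁻¹) * ((b : G) * z * (b : G)⁻¹) ^ k by
              rw [conj_pow]; group,
            z_comm b.2, e, mul_assoc, ← pow_succ']
      have h1 := hz (orderOf (b : G))
      obtain ⟨n, hn⟩ := hodd
      rw [pow_orderOf_eq_one] at h1
      rw [hn, pow_succ, pow_mul, pow_two, D.gen.sq, one_pow] at h1
      simp only [one_mul, inv_one, mul_one, left_eq_mul] at h1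
      exact D.gen.ne_one h1

end CfsgLib.Monster
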