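/-
Groups of Monster type: a non-central involution of the extraspecial subgroup commutes with an
element moving the central involution inside that subgroup.
-/
import Cfsg.Agent.Monster.Conjugates

set_option autoImplicit false
set_option linter.style.haveILetI false

namespace CfsgLib.Monster

open Cfsg CfsgLib.Leech CfsgLib.Extra2 CfsgLib.Golay

attribute [local irreducible] shortVecs halfTable quarterTable codeFinset

variable {G : Type*} [Group G] {z : G} (D : Data z)

theorem vec_row_mem {r : ℕ} (hr : r ∈ rows) : vec r ∈ golayCode := by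
  rw [rows_spec, List.mem_map] at hr
  obtain ⟨k, -, rfl⟩ := hr
  exact vec_comb_mem _ genMasks vec_genMasks_mem k

/-- A sign change and a shortest vector used as witnesses. -/
def flipWord : golayCode := ⟨vec 4038912, vec_row_mem (by decide +kernel)⟩

/-- The shortest vector moved by the sign change. -/
def flipVec : leechLattice := ⟨twoVec 13062145, twoVec_rows_mem _ (by decide +kernel)⟩

theorem flip_facts :
    flipSign (vec 4038912) Spor.vecU = Spor.vecU ∧
    dotInt (twoVec 13062145) Spor.vecU = 16 ∧ twoVec 13062145 none % 2 = 0 ∧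
    sqNorm (twoVec 13062145 - flipSign (vec 4038912) (twoVec 13062145)) = 32 ∧
    twoVec 13062145 - flipSign (vec 4038912) (twoVec 13062145) ≠ Spor.vecU ∧
    twoVec 13062145 - flipSign (vec 4038912) (twoVec 13062145) ≠ -Spor.vecU := by decide +kernel

theorem cl_inv {q : G} (hq : q ∈ D.Q) : D.cl q⁻¹ = -D.cl q := by
  refine eq_neg_of_add_eq_zero_left ?_
  rw [← D.cl_mul _ (inv_mem hq) q hq, inv_mul_cancel, cl_one D]

/-- Two elements of the subgroup commute exactly when their classes are orthogonal. -/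
theorem commute_iff {a b : G} (ha : a ∈ D.Q) (hb : b ∈ D.Q) {v w : leechLattice}
    (hv : D.cl a = cls (v : GolayPt → ℤ)) (hw : D.cl b = cls (w : GolayPt → ℤ)) :
    a * b = b * a ↔ (16 : ℤ) ∣ dotInt (v : GolayPt → ℤ) (w : GolayPt → ℤ) := by
  have hab : D.cl (a * b) = cls ((v + w : leechLattice) : GolayPt → ℤ) := by
    rw [D.cl_mul a ha b hb, hv, hw, ← cls_add]; rfl
  have h1 := sqNorm_div_eq D ha hv
  have h2 := sqNorm_div_eq D hb hw
  have h3 := sqNorm_div_eq D (mul_mem ha hb) hab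
  simp only [ZMod.intCast_zmod_eq_zero_iff_dvd, Nat.cast_ofNat, AddSubgroup.coe_add, sqNorm_add]
    at h1 h2 h3
  have e1 : a * b = b * a → a * b * (a * b) = a * a * (b * b) := fun e => by
    rw [show a * b * (a * b) = a * (b * a) * b by group, ← e]; group
  have e2 : a * b ≠ b * a → a * b * (a * b) = a * a * (b * b) * z := fun e => by
    rcases conj_eq D.gen hb ha with c | c
    · exact absurd (mul_inv_eq_iff_eq_mul.1 c).symm e
    · rw [show a * b * (a * b) = a * (b * a * b⁻¹) * (b * b) by group, c,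
        ← (D.gen.comm_z a ha).eq, show a * (a * z) * (b * b) = a * a * (z * (b * b)) by group,
        ← (D.gen.comm_z _ (mul_mem hb hb)).eq]
      group
  obtain ⟨A, hA⟩ := sixteen_dvd_sqNorm v.2
  obtain ⟨B, hB⟩ := sixteen_dvd_sqNorm w.2
  obtain ⟨M, hM⟩ := eight_dvd_dot v.2 w.2
  rw [hA] at h1; rw [hB] at h2; rw [hA, hB, hM] at h3; rw [hM]
  have hne := D.gen.ne_one
  have hzz := D.gen.sq
  constructor
  · intro e
    rw [e1 e] at h3
    rcases D.gen.square a ha with p | p <;> rcases D.gen.square b hb with q | q <;>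
      rw [p, q] at h3 <;> simp [p] at h1 <;> simp [q] at h2 <;> simp [hne, hzz] at h1 h2 h3 <;> omega
  · intro hd
    by_contra e
    rw [e2 e] at h3
    rcases D.gen.square a ha with p | p <;> rcases D.gen.square b hb with q | q <;>
      rw [p, q] at h3 <;> simp [p] at h1 <;> simp [q] at h2 <;> simp [hne, hzz] at h1 h2 h3 <;> omega

variable [Finite G] {s g : G}

/-- Two conjugate subgroups share an involution with class of squared length 32. -/
theorem exists_short_mem_inter (hs : s ∈ D.Q) (hsz : s ≠ z) (hg : g * z * g⁻¹ = s) :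
    ∃ y ∈ D.Q, g⁻¹ * y * g ∈ D.Q ∧
      ∃ d : leechLattice, D.cl y = cls (d : GolayPt → ℤ) ∧ sqNorm (d : GolayPt → ℤ) = 32 := by
  obtain ⟨v, hv, hn⟩ := norm_of_conj D hs hsz hg
  obtain ⟨g₀, h₀⟩ := frame_transitive (v := v) (w := eightAt none) hn (sqNorm_eightAt none)
  obtain ⟨b, hb, hbπ⟩ := (conj_structure_at D hs hsz hg hv hn h₀).1 flipWord
  obtain ⟨x, hx, hxc⟩ := D.cl_surj (g₀⁻¹ • flipVec)
  have hd : dotInt ((g₀⁻¹ • flipVec : leechLattice) : GolayPt → ℤ) (v : GolayPt → ℤ) =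
      8 * twoVec 13062145 none := by
    rw [show v = g₀⁻¹ • eightAt none by rw [← h₀, inv_smul_smul], dot_smul']
    show ∑ p, twoVec 13062145 p * (eightAt none : GolayPt → ℤ) p = _
    simp [eightAt_apply, mul_comm]
  have hxs : x * s = s * x := (commute_iff D hx hs hxc hv).2 (by
    rw [hd]; have := flip_facts.2.2.1; omega)
  have hy1 : x * (b : G) * x⁻¹ * (b : G)⁻¹ ∈ D.Q := by
    rw [show x * (b : G) * x⁻¹ * (b : G)⁻¹ = x * ((b : G) * x⁻¹ * (b : G)⁻¹) by group]
    exact mul_mem hx (conj_mem D b.2 (inv_mem hx))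
  refine ⟨_, hy1, ?_, ?_⟩
  · have hxC : g⁻¹ * x * g ∈ Subgroup.centralizer ({z} : Set G) := by
      rw [Subgroup.mem_centralizer_singleton_iff]
      calc g⁻¹ * x * g * z = g⁻¹ * (x * (g * z * g⁻¹)) * g := by group
        _ = g⁻¹ * ((g * z * g⁻¹) * x) * g := by rw [hg, hxs]
        _ = _ := by group
    have hbQ := (mem_map_conj_iff D).1 hb.1
    rw [show g⁻¹ * (x * (b : G) * x⁻¹ * (b : G)⁻¹) * g =
      g⁻¹ * x * g * (g⁻¹ * b * g) * (g⁻¹ * x * g)⁻¹ * (g⁻¹ * b * g)⁻¹ by group]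
    exact mul_mem (conj_mem D hxC hbQ) (inv_mem hbQ)
  · refine ⟨g₀⁻¹ • (flipVec - signAut flipWord • flipVec), ?_, ?_⟩
    · have hact := D.act b _ hbπ x⁻¹ (inv_mem hx) (-(g₀⁻¹ • flipVec)) (by
        rw [cl_inv D hx, hxc]; rfl)
      rw [show x * (b : G) * x⁻¹ * (b : G)⁻¹ = x * ((b : G) * x⁻¹ * (b : G)⁻¹) by group,
        D.cl_mul x hx _ (conj_mem D b.2 (inv_mem hx)), hact, hxc, ← cls_add, ← AddSubgroup.coe_add,
        smul_neg', mul_smul, mul_smul, smul_inv_smul, smul_sub', sub_eq_add_neg]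
    · rw [sqNorm_smul, AddSubgroup.coe_sub, signAut_apply]
      exact flip_facts.2.2.2.1

/-- An element centralising a non-central involution and moving the central one within the
subgroup. -/
theorem exists_moving (hex : ∃ g : G, g * z * g⁻¹ ∈ D.Q ∧ g * z * g⁻¹ ≠ z) {t : G} (ht : t ∈ D.Q)
    {v : leechLattice} (hv : D.cl t = cls (v : GolayPt → ℤ))
    (hn : sqNorm (v : GolayPt → ℤ) = 32) :
    ∃ g : G, g * t * g⁻¹ = t ∧ g * z * g⁻¹ ∈ D.Q ∧ g * z * g⁻¹ ≠ z := by
  obtain ⟨a₀, haQ, haz⟩ := hex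
  obtain ⟨y, hy, hy', d, hd, hdn⟩ := exists_short_mem_inter D haQ haz (g := a₀) rfl
  obtain ⟨hy1, hyz⟩ := ne_of_cls D hy hd (Or.inl hdn)
  obtain ⟨k, hk⟩ := min_transitive hdn hn
  obtain ⟨c, -, hc⟩ := conj_of_cls D hy ht hy1 hyz hd hv (g := k) (by rw [hk])
  obtain ⟨ht1, htz⟩ := ne_of_cls D ht hv (Or.inl hn)
  have hnc : ∀ {x : G}, x ∈ D.Q → IsConj x t → x ≠ 1 ∧ x ≠ z ∧
      ∃ u : leechLattice, D.cl x = cls (u : GolayPt → ℤ) ∧ sqNorm (u : GolayPt → ℤ) = 32 := by
    intro x hx hxt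
    have ht2 : t * t = 1 := by
      refine (sqNorm_div_eq D ht hv).2 ?_
      rw [hn]; rfl
    have hto : orderOf t = 2 := orderOf_eq_prime (by rw [pow_two, ht2]) ht1
    have hxo : orderOf x = 2 := by
      obtain ⟨q, hq⟩ := isConj_iff.1 hxt
      exact (SemiconjBy.orderOf_eq (a := q) (x := x) (y := t)
        (by unfold SemiconjBy; rw [← hq]; group)).trans hto
    refine norm_of_not_conj D ⟨a₀, haQ, haz⟩ hx hxo fun h => ?_
    obtain ⟨q, hq⟩ := isConj_iff.1 (h.trans hxt)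
    obtain ⟨u, hu, hun⟩ := norm_of_conj D ht htz hq
    obtain ⟨w, hw, he⟩ := (cls_eq_iff _ _).1 (hv.symm.trans hu)
    rcases short_congr u.2 (fun e => by rw [e, hun] at hn; omega) (by omega) (by omega)
      ⟨w, hw, he⟩ with e | ⟨e, -, -⟩
    · rw [e, show sqNorm (-(u : GolayPt → ℤ)) = sqNorm (u : GolayPt → ℤ) by simp [sqNorm], hun]
        at hn
      omega
    · omega
  set a := (c : G) * a₀ with ha
  have hs1 : a * z * a⁻¹ ∈ D.Q := by
    rw [show a * z * a⁻¹ = (c : G) * (a₀ * z * a₀⁻¹) * (c : G)⁻¹ by rw [ha]; group]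
    exact conj_mem D c.2 haQ
  have hs2 : a * z * a⁻¹ ≠ z := by
    intro e
    apply haz
    have := congrArg (fun w => (c : G)⁻¹ * w * c) e
    rw [ha] at this
    calc a₀ * z * a₀⁻¹ = (c : G)⁻¹ * ((c : G) * a₀ * z * ((c : G) * a₀)⁻¹) * c := by group
      _ = (c : G)⁻¹ * z * c := this
      _ = z := by
        rw [mul_assoc, ← show (c : G) * z = z * c from Subgroup.mem_centralizer_singleton_iff.1 c.2,
          inv_mul_cancel_left]
  have hat : a⁻¹ * t * a ∈ D.Q := by
    rw [← hc, ha, show ((c : G) * a₀)⁻¹ * ((c : G) * y * (c : G)⁻¹) * ((c : G) * a₀) =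
      a₀⁻¹ * y * a₀ by group]
    exact hy'
  obtain ⟨-, -, u, hu, hun⟩ := hnc hat (isConj_iff.2 ⟨a, by group⟩)
  obtain ⟨k', hk'⟩ := min_transitive hn hun
  obtain ⟨c', -, hc'⟩ := conj_of_cls D ht hat ht1 htz hv hu (g := k') (by rw [hk'])
  have hcz : a * c' * z * (a * c')⁻¹ = a * z * a⁻¹ := by
    calc a * c' * z * (a * c')⁻¹ = a * ((c' : G) * z * (c' : G)⁻¹) * a⁻¹ := by group
      _ = _ := by rw [z_comm c'.2]
  refine ⟨a * c', ?_, hcz ▸ hs1, hcz ▸ hs2⟩
  calc a * c' * t * (a * c')⁻¹ = a * ((c' : G) * t * (c' : G)⁻¹) * a⁻¹ := by group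
    _ = t := by rw [hc']; group

end CfsgLib.Monster
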