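/-
Groups of Monster type: the centraliser of a non-central involution modulo that involution is of
Baby Monster type.
-/
import Cfsg.Agent.Monster.NoncentralCentralizer
import Cfsg.Agent.Monster.ExtraBasics

set_option autoImplicit false
set_option linter.style.haveILetI false

namespace CfsgLib.Monster

open Cfsg CfsgLib.Leech CfsgLib.Extra2 CfsgLib.Golay MulAction

attribute [local irreducible] shortVecs halfTable quarterTable codeFinset

variable {G : Type*} [Group G] [Finite G] {z : G} (D : Data z)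

/-- An element of the stabiliser of the short vector as a lattice automorphism. -/
def toCo0 : Spor.Co2 →* Co0 := Subgroup.inclusion inf_le_left

theorem toCo0_fix (a : Spor.Co2) : toCo0 a • Spor.leechU = Spor.leechU := a.2.2

theorem mem_center_fix {g : Co0} {v : leechLattice} (hv : sqNorm (v : GolayPt → ℤ) = 32)
    (hg : g ∈ Subgroup.center Co0) (hfix : g • v = v) : g = 1 := by
  have hc : g ∈ (Subgroup.center Co0 : Set Co0) := hg
  rw [center_eq] at hc
  rcases hc with e | e
  · exact e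
  exfalso
  rw [show g = negAut from e, negAut_smul] at hfix
  have h0 : (v : GolayPt → ℤ) = 0 := funext fun i => by
    have := congrFun (congrArg Subtype.val hfix) i
    simp only [AddSubgroup.coe_neg, Pi.neg_apply] at this
    show _ = (0 : ℤ)
    omega
  rw [h0] at hv
  simp [sqNorm] at hv

theorem vecU_norm : sqNorm (Spor.leechU : GolayPt → ℤ) = 32 := by
  show sqNorm Spor.vecU = 32
  decide +kernel

theorem simple_Co2 : IsSimpleGroup Spor.Co2 ∧ Nat.card Spor.Co2 = 42305421312000 := by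
  let i : Spor.Co2 ≃* stabilizer Co0 Spor.leechU :=
    { toFun := fun a => ⟨toCo0 a, a.2.2⟩
      invFun := fun a => ⟨(a : Co0), (a : Co0).2, a.2⟩
      left_inv := fun a => rfl
      right_inv := fun a => rfl
      map_mul' := fun a b => rfl }
  obtain ⟨h1, h2⟩ := isCo2_stab vecU_norm
  exact ⟨i.isSimpleGroup_congr.2 h1, (Nat.card_congr i.toEquiv).trans h2⟩

/-- The centraliser of a non-central involution, modulo it. -/
theorem isOfBabyMonsterType (hex : ∃ g : G, g * z * g⁻¹ ∈ D.Q ∧ g * z * g⁻¹ ≠ z) {t : G}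
    (ht : t ∈ D.Q) (ht2 : orderOf t = 2) (hnc : ¬ IsConj z t)
    [hN : ((Subgroup.zpowers t).subgroupOf (Subgroup.centralizer ({t} : Set G))).Normal] :
    IsOfBabyMonsterType (↥(Subgroup.centralizer ({t} : Set G)) ⧸
      (Subgroup.zpowers t).subgroupOf (Subgroup.centralizer ({t} : Set G))) := by
  haveI : Fact (Nat.Prime 2) := ⟨Nat.prime_two⟩
  obtain ⟨ht1, htz, v, hv, hn⟩ := norm_of_not_conj D hex ht ht2 hnc
  have htt : t * t = 1 := by rw [← pow_two, ← ht2, pow_orderOf_eq_one]
  have hzt : z * t = t * z := (D.gen.comm_z t ht).symm.eq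
  -- `t` is conjugate to `t * z`, so the latter is not conjugate to `z`
  obtain ⟨x₀, hx₀, hx₀t⟩ := exists_conj_mul D.gen ht ht1 htz
  have hncz : ¬ IsConj z (t * z) := fun h => hnc (h.trans (isConj_iff.2 ⟨x₀, hx₀t⟩).symm)
  set K := Subgroup.centralizer ({t} : Set G) with hK
  set N := (Subgroup.zpowers t).subgroupOf K with hNdef
  let p : K →* K ⧸ N := QuotientGroup.mk' N
  have hp : ∀ a b : K, p a = p b ↔ (b : G) = a ∨ (b : G) = a * t := by
    intro a b
    rw [QuotientGroup.mk'_apply, QuotientGroup.mk'_apply, QuotientGroup.eq, hNdef,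
      Subgroup.mem_subgroupOf, mem_zpowers_iff htt, Subgroup.coe_mul, Subgroup.coe_inv,
      inv_mul_eq_one, inv_mul_eq_iff_eq_mul]
    exact or_congr_left eq_comm
  have hKmem : ∀ {x : G}, x ∈ K ↔ x * t = t * x := Subgroup.mem_centralizer_singleton_iff
  let zK : K := ⟨z, hKmem.2 hzt⟩
  let zb : K ⧸ N := p zK
  set C := Subgroup.centralizer ({z} : Set G) with hC
  let M : Subgroup G := C ⊓ K
  have hιmem : ∀ m : M, p ⟨m, m.2.2⟩ ∈ Subgroup.centralizer ({zb} : Set (K ⧸ N)) := fun m => by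
    rw [Subgroup.mem_centralizer_singleton_iff, ← map_mul, ← map_mul]
    exact congrArg p (Subtype.ext (Subgroup.mem_centralizer_singleton_iff.1 m.2.1))
  let ι : M →* Subgroup.centralizer ({zb} : Set (K ⧸ N)) :=
    (p.comp (Subgroup.inclusion inf_le_right)).codRestrict _ hιmem
  have hι : ∀ a b : M, ι a = ι b ↔ (b : G) = a ∨ (b : G) = a * t := fun a b =>
    ⟨fun h => (hp ⟨a, a.2.2⟩ ⟨b, b.2.2⟩).1 (congrArg Subtype.val h),
      fun h => Subtype.ext ((hp ⟨a, a.2.2⟩ ⟨b, b.2.2⟩).2 h)⟩
  have hιs : Function.Surjective ι := by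
    rintro ⟨y, hy⟩
    obtain ⟨k, rfl⟩ := QuotientGroup.mk'_surjective N y
    rw [Subgroup.mem_centralizer_singleton_iff, ← map_mul, ← map_mul] at hy
    have hk : (k : G) * z = z * k := by
      rcases (hp _ _).1 hy with e | e
      · exact e.symm
      exfalso
      have e' : (k : G) * z * t = z * k := e.symm
      refine hncz (IsConj.symm (isConj_iff.2 ⟨k, ?_⟩))
      calc (k : G) * (t * z) * (k : G)⁻¹ = (k : G) * z * t * (k : G)⁻¹ := by
            rw [← hzt, mul_assoc (k : G) z t]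
        _ = z := by rw [e', mul_inv_cancel_right]
    exact ⟨⟨k, Subgroup.mem_centralizer_singleton_iff.2 hk, k.2⟩, rfl⟩
  have hzM : z ∈ M := ⟨Subgroup.mem_centralizer_singleton_iff.2 rfl, hKmem.2 hzt⟩
  have htM : t ∈ M := ⟨D.le_C ht, hKmem.2 rfl⟩
  let RM : Subgroup M := D.Q.subgroupOf M
  haveI hRMn : RM.Normal := ⟨fun a ha m => conj_mem D m.2.1 ha⟩
  let R : Subgroup (Subgroup.centralizer ({zb} : Set (K ⧸ N))) := RM.map ι
  haveI hRn : R.Normal := Subgroup.Normal.map hRMn ι hιs
  let zz : Subgroup.centralizer ({zb} : Set (K ⧸ N)) := ι ⟨z, hzM⟩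
  have hzz : zz ∈ R := ⟨⟨z, hzM⟩, D.gen.mem, rfl⟩
  have hzzc : ∀ h, h * zz = zz * h := fun h => Subtype.ext (Subgroup.mem_centralizer_singleton_iff.1 h.2)
  have hzz2 : zz * zz = 1 := by
    rw [← map_mul, show (⟨z, hzM⟩ : M) * ⟨z, hzM⟩ = 1 from Subtype.ext D.gen.sq, map_one]
  have hzz1 : zz ≠ 1 := by
    rw [← map_one ι]
    intro e
    rcases (hι 1 ⟨z, hzM⟩).1 e.symm with e' | e'
    · exact D.gen.ne_one e'
    · exact htz (by simpa using e'.symm)
  -- order of the subgroup
  have hcardQK : Nat.card RM = 2 ^ 24 := by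
    have e : RM.map M.subtype = D.Q ⊓ K := by
      rw [show RM.map M.subtype = D.Q ⊓ M from Subgroup.subgroupOf_map_subtype D.Q M]
      show D.Q ⊓ (C ⊓ K) = D.Q ⊓ K
      rw [← inf_assoc, inf_eq_left.2 D.le_C]
    rw [← Subgroup.card_map_of_injective M.subtype_injective, e]
    have h1 := card_le_two_mul D.gen D.Q le_rfl ht
    rw [D.card] at h1
    obtain ⟨j, hj25, hj⟩ := (Nat.dvd_prime_pow Nat.prime_two).1
      (D.card ▸ Subgroup.card_dvd_of_le (inf_le_left : D.Q ⊓ K ≤ D.Q))
    have hne : j ≠ 25 := by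
      rintro rfl
      have heq : D.Q ⊓ K = D.Q := Subgroup.eq_of_le_of_card_ge inf_le_left (by rw [hj, D.card])
      have hx : x₀ ∈ K := (heq.symm ▸ hx₀ : x₀ ∈ D.Q ⊓ K).2
      rw [hKmem.1 hx, mul_inv_cancel_right] at hx₀t
      exact D.gen.ne_one (left_eq_mul.1 hx₀t)
    rw [hj] at h1
    rw [hj]
    rcases Nat.lt_or_ge j 24 with h | h
    · have := Nat.pow_le_pow_right (show 0 < 2 by norm_num) (Nat.le_sub_one_of_lt h)
      omega
    · rw [show j = 24 by omega]
  have hcardR : Nat.card R = 2 ^ 23 := by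
    let f : RM →* Subgroup.centralizer ({zb} : Set (K ⧸ N)) := ι.comp RM.subtype
    have hr : f.range = R := by rw [MonoidHom.range_comp, Subgroup.range_subtype]
    have hk : Nat.card f.ker = 2 := by
      have e : f.ker = Subgroup.zpowers (⟨⟨t, htM⟩, ht⟩ : RM) := by
        ext a
        rw [MonoidHom.mem_ker, Extra2.mem_zpowers_iff (Subtype.ext (Subtype.ext htt)), ← map_one f]
        constructor
        · intro h
          rcases (hι 1 a.1).1 h.symm with e' | e'
          · exact Or.inl (Subtype.ext (Subtype.ext e'))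
          · exact Or.inr (Subtype.ext (Subtype.ext (by simpa using e')))
        · intro h
          refine ((hι 1 a.1).2 ?_).symm
          rcases h with rfl | rfl
          exacts [Or.inl rfl, Or.inr (by simp)]
      rw [e, Nat.card_zpowers, ← Subgroup.orderOf_coe, ← Subgroup.orderOf_coe]
      exact ht2
    have h1 := Subgroup.card_mul_index f.ker
    rw [Subgroup.index_ker, hr, hk, hcardQK] at h1
    omega
  -- the centre
  have hRlift : ∀ r : R, ∃ a : M, (a : G) ∈ D.Q ∧ ι a = (r : Subgroup.centralizer ({zb} : Set (K ⧸ N))) :=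
    fun r => by obtain ⟨a, ha, e⟩ := r.2; exact ⟨a, ha, e⟩
  have hcommR : ∀ (a b : M), (a : G) ∈ D.Q → (b : G) ∈ D.Q → ι a * ι b = ι b * ι a →
      (a : G) * b = (b : G) * a := by
    intro a b ha hb h
    rw [← map_mul, ← map_mul] at h
    rcases (hι _ _).1 h with e | e
    · exact e.symm
    · exfalso
      have e' : (b : G) * a = a * b * t := e
      rcases conj_eq D.gen hb ha with c | c
      · rw [mul_inv_eq_iff_eq_mul] at c
        exact ht1 (left_eq_mul.1 (c.symm.trans e'))
      · rw [mul_inv_eq_iff_eq_mul, ← (D.gen.comm_z a ha).eq, mul_assoc (a : G) z,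
          ← (D.gen.comm_z b hb).eq, ← mul_assoc] at c
        exact htz (mul_left_cancel (e'.symm.trans c))
  have hcen : ∀ r : R, r ∈ Subgroup.center R ↔ r = 1 ∨ r = ⟨zz, hzz⟩ := by
    intro r
    constructor
    · intro hr
      obtain ⟨a, ha, har⟩ := hRlift r
      have hca : ∀ y ∈ D.Q, y * t = t * y → (a : G) * y = y * a := by
        intro y hy hyt
        refine hcommR a ⟨y, D.le_C hy, hKmem.2 hyt⟩ ha hy ?_
        have := Subgroup.mem_center_iff.1 hr ⟨_, ⟨⟨y, D.le_C hy, hKmem.2 hyt⟩, hy, rfl⟩⟩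
        have h := congrArg Subtype.val this
        simp only [Subgroup.coe_mul, ← har] at h
        exact h.symm
      -- either the element or its product with `t` is central in the subgroup
      obtain ⟨b, hbQ, hb, hbx, hab⟩ : ∃ b : G, b ∈ D.Q ∧
          (∀ y ∈ D.Q, y * t = t * y → b * y = y * b) ∧ b * x₀ = x₀ * b ∧ (a = b ∨ (a : G) = b * t) := by
        rcases conj_eq D.gen hx₀ ha with c | c
        · exact ⟨a, ha, hca, (mul_inv_eq_iff_eq_mul.1 c).symm, Or.inl rfl⟩
        · refine ⟨(a : G) * t, mul_mem ha ht, fun y hy hyt => ?_, ?_,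
            Or.inr (by rw [mul_assoc, htt, mul_one])⟩
          · rw [mul_assoc, ← hyt, ← mul_assoc, hca y hy hyt, mul_assoc]
          · have e : x₀ * ((a : G) * t) * x₀⁻¹ = a * t := by
              calc x₀ * ((a : G) * t) * x₀⁻¹ = (x₀ * a * x₀⁻¹) * (x₀ * t * x₀⁻¹) := by group
                _ = (a * z) * (z * t) := by rw [c, hx₀t, ← (D.gen.comm_z a ha).eq, hzt]
                _ = a * (z * z) * t := by group
                _ = a * t := by rw [D.gen.sq, mul_one]
            exact (mul_inv_eq_iff_eq_mul.1 e).symm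
      have hball : ∀ y ∈ D.Q, Commute b y := by
        intro y hy
        rcases conj_eq D.gen hy ht with c | c
        · exact hb y hy (mul_inv_eq_iff_eq_mul.1 c)
        · have h' : (x₀⁻¹ * y) * t = t * (x₀⁻¹ * y) := by
            refine mul_inv_eq_iff_eq_mul.1 ?_
            calc x₀⁻¹ * y * t * (x₀⁻¹ * y)⁻¹ = x₀⁻¹ * (y * t * y⁻¹) * x₀ := by group
              _ = x₀⁻¹ * (x₀ * t * x₀⁻¹) * x₀ := by rw [c, hx₀t, hzt]
              _ = t := by group
          have hc1 : Commute b (x₀⁻¹ * y) := hb _ (mul_mem (inv_mem hx₀) hy) h'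
          have := (show Commute b x₀ from hbx).mul_right hc1
          rwa [mul_inv_cancel_left] at this
      rcases D.gen.center_iff b hbQ hball with hb1 | hb1
      · left
        refine Subtype.ext ?_
        rw [← har, Subgroup.coe_one, ← map_one ι]
        refine ((hι 1 a).2 ?_).symm
        rcases hab with e | e <;> [left; right] <;> simpa [hb1] using e
      · right
        refine Subtype.ext ?_
        rw [← har]
        refine ((hι ⟨z, hzM⟩ a).2 ?_).symm
        rcases hab with e | e <;> [left; right] <;> simpa [hb1] using e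
    · rintro (rfl | rfl)
      · exact one_mem _
      · rw [Subgroup.mem_center_iff]
        exact fun w => Subtype.ext (hzzc _)
  have hcardcen : Nat.card (Subgroup.center R) = 2 := by
    have e : Subgroup.center R = Subgroup.zpowers (⟨zz, hzz⟩ : R) := by
      ext r; rw [hcen, Extra2.mem_zpowers_iff (Subtype.ext hzz2)]
    rw [e, Nat.card_zpowers]
    exact orderOf_eq_prime (by rw [pow_two]; exact Subtype.ext hzz2)
      (fun h => hzz1 (congrArg Subtype.val h))
  have hR2 : IsPGroup 2 R := IsPGroup.of_card hcardR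
  have hinR : ∀ {a : M}, (a : G) ∈ D.Q → ((a : G) = 1 ∨ (a : G) = z) →
      ∀ r : R, (r : Subgroup.centralizer ({zb} : Set (K ⧸ N))) = ι a → r ∈ Subgroup.center R := by
    intro a _ h r hr
    rw [hcen]
    rcases h with h | h
    · left; refine Subtype.ext ?_; rw [hr, show a = 1 from Subtype.ext h, map_one]; rfl
    · right; refine Subtype.ext ?_; rw [hr, show a = ⟨z, hzM⟩ from Subtype.ext h]
  have hextra : IsExtraspecial 2 R := by
    refine isExtraspecial_of hR2 hcardcen (fun r r' => ?_) (fun r => ?_) ?_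
    · obtain ⟨a, ha, har⟩ := hRlift r
      obtain ⟨b, hb, hbr⟩ := hRlift r'
      refine hinR (a := a * b * a⁻¹ * b⁻¹) (mul_mem (mul_mem (mul_mem ha hb) (inv_mem ha)) (inv_mem hb))
        (D.gen.comm a ha b hb) _ ?_
      simp [har, hbr]
    · obtain ⟨a, ha, har⟩ := hRlift r
      exact hinR (a := a * a) (mul_mem ha ha) (D.gen.square a ha) _ (by simp [har])
    · by_contra h
      push Not at h
      have : Subgroup.center R = ⊤ := eq_top_iff.2 fun r _ => Subgroup.mem_center_iff.2 fun w => h w r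
      rw [this, Subgroup.card_top, hcardR] at hcardcen
      norm_num at hcardcen
  -- the quotient
  obtain ⟨g₀, hg₀⟩ := min_transitive vecU_norm hn
  let θ : Spor.Co2 →* Spor.Co1 :=
    (QuotientGroup.mk' (Subgroup.center Co0)).comp ((MulAut.conj g₀).toMonoidHom.comp toCo0)
  have hθ : ∀ a, θ a = QuotientGroup.mk (g₀ * toCo0 a * g₀⁻¹) := fun a => rfl
  have hfixv : ∀ a, (g₀ * toCo0 a * g₀⁻¹) • v = v := fun a => by
    rw [mul_smul, mul_smul, ← hg₀, inv_smul_smul, toCo0_fix]
  have hθi : Function.Injective θ := (injective_iff_map_eq_one θ).2 fun a ha => by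
    have := mem_center_fix hn ((QuotientGroup.eq_one_iff _).1 ha) (hfixv a)
    have h1 : toCo0 a = 1 := by
      have := congrArg (fun x => g₀⁻¹ * x * g₀) this
      simpa [mul_assoc] using this
    exact Subgroup.inclusion_injective inf_le_left (h1.trans (map_one _).symm)
  let ρ : M →* Spor.Co1 := D.π.comp (Subgroup.inclusion inf_le_left)
  have hρmem : ∀ m : M, ρ m ∈ θ.range := by
    intro m
    obtain ⟨k, hk⟩ := exists_lift D ⟨m, m.2.1⟩
    have hfix := (image_fix_iff D ht ht1 htz hv k).1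
      ⟨⟨m, m.2.1⟩, by rw [hKmem.1 m.2.2, mul_inv_cancel_right], hk⟩
    obtain ⟨k', hk', hmk⟩ : ∃ k' : Co0, k' • v = v ∧ ρ m = QuotientGroup.mk k' := by
      rcases fix_or_neg_of_cls hn hfix with e | e
      · exact ⟨k, e, hk⟩
      · refine ⟨negAut * k, by rw [mul_smul, e, negAut_smul, neg_neg], hk.trans ?_⟩
        rw [QuotientGroup.mk_mul, (QuotientGroup.eq_one_iff negAut).2 negAut_central, one_mul]
    have hu : (g₀⁻¹ * k' * g₀) • Spor.leechU = Spor.leechU := by
      rw [mul_smul, mul_smul, hg₀, hk', ← hg₀, inv_smul_smul]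
    refine ⟨⟨((g₀⁻¹ * k' * g₀ : Co0) : Equiv.Perm leechLattice), (g₀⁻¹ * k' * g₀).2, hu⟩, ?_⟩
    rw [hθ, hmk]
    congr 1
    show g₀ * (g₀⁻¹ * k' * g₀) * g₀⁻¹ = k'
    group
  let χ : M →* Spor.Co2 := (MonoidHom.ofInjective hθi).symm.toMonoidHom.comp (ρ.codRestrict _ hρmem)
  have hχ : ∀ m, θ (χ m) = ρ m := fun m => by
    exact MonoidHom.apply_ofInjective_symm hθi _
  have hχs : Function.Surjective χ := by
    intro a
    obtain ⟨c, hc, hca⟩ := (image_fix_iff D ht ht1 htz hv (g₀ * toCo0 a * g₀⁻¹)).2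
      (by rw [hfixv])
    refine ⟨⟨c, c.2, hKmem.2 (mul_inv_eq_iff_eq_mul.1 hc)⟩, hθi ?_⟩
    rw [hχ, hθ]
    exact hca
  have hχker : ∀ m, χ m = 1 ↔ (m : G) ∈ D.Q := fun m => by
    rw [← hθi.eq_iff, hχ, map_one]
    exact D.mem_ker _
  have hle : ι.ker ≤ χ.ker := fun m hm => by
    rw [MonoidHom.mem_ker, hχker]
    rcases (hι 1 m).1 (by rw [MonoidHom.mem_ker.1 hm, map_one]) with e | e <;> rw [e]
    · exact one_mem _
    · simpa using ht
  let χb : Subgroup.centralizer ({zb} : Set (K ⧸ N)) →* Spor.Co2 :=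
    ι.liftOfSurjective hιs ⟨χ, hle⟩
  have hχb : ∀ m, χb (ι m) = χ m := fun m =>
    MonoidHom.liftOfRightInverse_comp_apply ι _ (Function.rightInverse_surjInv hιs) ⟨χ, hle⟩ m
  have hχbs : Function.Surjective χb := fun a => by
    obtain ⟨m, rfl⟩ := hχs a; exact ⟨ι m, hχb m⟩
  have hker : χb.ker = R := by
    ext y
    obtain ⟨m, rfl⟩ := hιs y
    rw [MonoidHom.mem_ker, hχb, hχker]
    refine ⟨fun h => ⟨m, h, rfl⟩, fun ⟨a, ha, h⟩ => ?_⟩
    rcases (hι a m).1 h with e | e <;> rw [e]
    exacts [ha, mul_mem ha ht]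
  let e : (Subgroup.centralizer ({zb} : Set (K ⧸ N))) ⧸ R ≃* Spor.Co2 :=
    (QuotientGroup.quotientMulEquivOfEq hker.symm).trans (QuotientGroup.quotientKerEquivOfSurjective χb hχbs)
  have he : ∀ m, e (QuotientGroup.mk (ι m)) = χ m := fun m => hχb m
  -- the module map
  have hperp : ∀ x : leechPerpU, ∀ q ∈ D.Q,
      D.cl q = cls ((g₀ • (x : leechLattice) : leechLattice) : GolayPt → ℤ) → q * t = t * q := by
    intro x q hq hqc
    refine (commute_iff D hq ht hqc hv).2 ?_
    rw [← hg₀, dot_smul']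
    exact x.2
  have hsel : ∀ x : leechPerpU, ∃ a : M, (a : G) ∈ D.Q ∧
      D.cl (a : G) = cls ((g₀ • (x : leechLattice) : leechLattice) : GolayPt → ℤ) := fun x => by
    obtain ⟨q, hq, hqc⟩ := D.cl_surj (g₀ • (x : leechLattice))
    exact ⟨⟨q, D.le_C hq, hKmem.2 (hperp x q hq hqc)⟩, hq, hqc⟩
  let ιR : RM →* R := ι.subgroupMap RM
  let Φ : RM →* R ⧸ Subgroup.center R := (QuotientGroup.mk' _).comp ιR
  have hΦ1 : ∀ a : RM, ((a.1 : G) = z) → Φ a = 1 := fun a ha => by
    exact (QuotientGroup.eq_one_iff _).2 (hinR (a := a.1) a.2 (Or.inr ha) _ rfl)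
  let ψ : leechPerpU → R ⧸ Subgroup.center R := fun x =>
    Φ ⟨(hsel x).choose, (hsel x).choose_spec.1⟩
  have hψ : ∀ (x : leechPerpU) (a : RM),
      D.cl (a.1 : G) = cls ((g₀ • (x : leechLattice) : leechLattice) : GolayPt → ℤ) → ψ x = Φ a := by
    intro x a ha
    rcases eq_or_mul_of_cl_eq D a.2 (hsel x).choose_spec.1 (ha.trans (hsel x).choose_spec.2.symm)
      with h | h
    · exact congrArg Φ (Subtype.ext (Subtype.ext h))
    · rw [← mul_one (Φ a), ← hΦ1 ⟨⟨z, hzM⟩, D.gen.mem⟩ rfl, ← map_mul]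
      exact congrArg Φ (Subtype.ext (Subtype.ext h))
  have hΦk : ∀ a : RM, Φ a = 1 ↔ D.cl (a.1 : G) = cls 0 ∨ D.cl (a.1 : G) = cls (v : GolayPt → ℤ) := by
    intro a
    show (QuotientGroup.mk (ιR a) : R ⧸ Subgroup.center R) = 1 ↔ _
    rw [QuotientGroup.eq_one_iff, hcen, show D.cl (a.1 : G) = cls 0 ↔ (a.1 : G) = 1 ∨ (a.1 : G) = z
      from D.cl_zero _ a.2]
    constructor
    · rintro (h | h)
      · rcases (hι 1 a.1).1 ((congrArg Subtype.val h).trans (map_one ι).symm).symm with e' | e'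
        · exact Or.inl (Or.inl e')
        · exact Or.inr (by rw [e']; simpa using hv)
      · rcases (hι ⟨z, hzM⟩ a.1).1 (congrArg Subtype.val h).symm with e' | e'
        · exact Or.inl (Or.inr e')
        · exact Or.inr (by rw [e', hzt, cl_mul_z D ht, hv])
    · rintro ((h | h) | h)
      · exact Or.inl (Subtype.ext (((hι 1 a.1).2 (Or.inl h)).symm.trans (map_one ι)))
      · exact Or.inr (Subtype.ext ((hι ⟨z, hzM⟩ a.1).2 (Or.inl h)).symm)
      · have haQ : (a.1 : G) ∈ D.Q := a.2
        rcases eq_or_mul_of_cl_eq D ht haQ (hv.trans h.symm) with e' | e'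
        · exact Or.inl (Subtype.ext
            (((hι 1 a.1).2 (Or.inr (by rw [e']; simp))).symm.trans (map_one ι)))
        · exact Or.inr (Subtype.ext ((hι ⟨z, hzM⟩ a.1).2
            (Or.inr (by rw [e']; exact hzt.symm))).symm)
  have hmodule : IsLeechPerpModTwoIso R e ψ := by
    refine ⟨fun x y => ?_, fun r => ?_, fun x => ?_, ?_⟩
    · rw [hψ (x + y) (⟨(hsel x).choose, (hsel x).choose_spec.1⟩ *
        ⟨(hsel y).choose, (hsel y).choose_spec.1⟩), map_mul]
      show D.cl (((hsel x).choose : G) * (hsel y).choose) = _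
      rw [D.cl_mul _ (hsel x).choose_spec.1 _ (hsel y).choose_spec.1, (hsel x).choose_spec.2,
        (hsel y).choose_spec.2, ← cls_add, AddSubgroup.coe_add, smul_add']
      rfl
    · obtain ⟨w, rfl⟩ := QuotientGroup.mk_surjective r
      obtain ⟨a, ha, har⟩ := hRlift w
      obtain ⟨u, hu⟩ := D.cl_rep _ ha
      have hxu : (g₀⁻¹ • u : leechLattice) ∈ leechPerpU := by
        show (16 : ℤ) ∣ dotInt _ Spor.vecU
        have h1 := (commute_iff D ha ht hu hv).1 (hKmem.1 a.2.2)
        rwa [← dot_smul' g₀⁻¹, ← hg₀, inv_smul_smul] at h1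
      refine ⟨⟨_, hxu⟩, ?_⟩
      rw [hψ _ ⟨a, ha⟩ (by rw [hu, smul_inv_smul])]
      exact congrArg QuotientGroup.mk (Subtype.ext har)
    · rw [hψ x ⟨(hsel x).choose, (hsel x).choose_spec.1⟩ (hsel x).choose_spec.2, hΦk,
        (hsel x).choose_spec.2, ← hg₀]
      have hcl : ∀ a b : leechLattice,
          cls ((g₀ • a : leechLattice) : GolayPt → ℤ) = cls ((g₀ • b : leechLattice) : GolayPt → ℤ) ↔
            cls (a : GolayPt → ℤ) = cls (b : GolayPt → ℤ) := fun a b =>
        ⟨fun h => by simpa using cls_smul g₀⁻¹ h, cls_smul g₀⟩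
      have hrep : ∀ a b : leechLattice, cls (a : GolayPt → ℤ) = cls (b : GolayPt → ℤ) ↔
          ∃ w : leechLattice, a = b + (w + w) := fun a b => by
        rw [cls_eq_iff]
        constructor
        · rintro ⟨w, hw, e'⟩
          exact ⟨⟨w, hw⟩, Subtype.ext (by
            rw [AddSubgroup.coe_add, AddSubgroup.coe_add, ← two_nsmul]
            exact eq_add_of_sub_eq' e')⟩
        · rintro ⟨w, rfl⟩
          exact ⟨w, w.2, by rw [AddSubgroup.coe_add, AddSubgroup.coe_add, two_nsmul]; abel⟩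
      have h0 : cls ((g₀ • (0 : leechLattice) : leechLattice) : GolayPt → ℤ) = cls 0 := by
        rw [show g₀ • (0 : leechLattice) = 0 from
          (by have := smul_sub' g₀ (0 : leechLattice) 0; simpa using this)]
        rfl
      rw [← h0, hcl, hcl, hrep, hrep]
      simp only [zero_add]
    · intro h g hg x y hxy q hq
      obtain ⟨m, rfl⟩ := hιs h
      rw [he] at hg
      set a : RM := ⟨(hsel x).choose, (hsel x).choose_spec.1⟩ with hadef
      have hqa : QuotientGroup.mk (ιR a) = (QuotientGroup.mk q : R ⧸ Subgroup.center R) := by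
        rw [← hq]; rfl
      have hm : D.π ⟨m, m.2.1⟩ = QuotientGroup.mk (g₀ * toCo0 g * g₀⁻¹) := by
        rw [← hθ, ← hg, hχ]; rfl
      have hact := D.act ⟨m, m.2.1⟩ _ hm _ (hsel x).choose_spec.1 _ (hsel x).choose_spec.2
      rw [mul_smul, mul_smul, inv_smul_smul, show toCo0 g • (x : leechLattice) = y from hxy] at hact
      have hy := hψ y ⟨m * a.1 * m⁻¹, conj_mem D m.2.1 a.2⟩ hact
      rw [hy]
      show QuotientGroup.mk _ = _
      have hdiff : ∃ c ∈ Subgroup.center R, q = ιR a * c :=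
        ⟨(ιR a)⁻¹ * q, QuotientGroup.eq.1 hqa, by rw [mul_inv_cancel_left]⟩
      obtain ⟨c, hc, rfl⟩ := hdiff
      refine QuotientGroup.eq.2 ?_
      convert hc using 1
      refine Subtype.ext ?_
      simp only [Subgroup.coe_mul, Subgroup.coe_inv]
      have hcz : ∀ w, w * (c : Subgroup.centralizer ({zb} : Set (K ⧸ N))) * w⁻¹ = c := by
        intro w
        rcases (hcen c).1 hc with rfl | rfl
        · simp
        · exact by rw [show w * (zz : _) = zz * w from hzzc w, mul_inv_cancel_right]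
      show (ι (m * a.1 * m⁻¹))⁻¹ * (ι m * (ι a.1 * c) * (ι m)⁻¹) = c
      rw [map_mul, map_mul, map_inv]
      calc (ι m * ι a.1 * (ι m)⁻¹)⁻¹ * (ι m * (ι a.1 * c) * (ι m)⁻¹)
          = ι m * c * (ι m)⁻¹ := by group
        _ = c := hcz _
  -- the generalized Fitting subgroup
  haveI := simple_Co2.1
  haveI : IsSimpleGroup ((Subgroup.centralizer ({zb} : Set (K ⧸ N))) ⧸ R) :=
    e.isSimpleGroup_congr.2 simple_Co2.1
  have hsolv : ¬ Group.IsSolvable ((Subgroup.centralizer ({zb} : Set (K ⧸ N))) ⧸ R) := by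
    refine not_solvable_of_simple Nat.prime_two Nat.prime_three (by norm_num) ?_ ?_ <;>
      · rw [Nat.card_congr e.toEquiv, simple_Co2.2]; norm_num
  have hself : Subgroup.centralizer (R : Set (Subgroup.centralizer ({zb} : Set (K ⧸ N)))) ≤ R := by
    have hnorm := Subgroup.Normal.map (H := Subgroup.centralizer
      (R : Set (Subgroup.centralizer ({zb} : Set (K ⧸ N))))) inferInstance _ hχbs
    rcases hnorm.eq_bot_or_eq_top with h | h
    · exact ((Subgroup.map_eq_bot_iff _).1 h).trans hker.le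
    exfalso
    -- a sign change fixing the short vector moves some class orthogonal to it
    obtain ⟨hfu, hdotu, -, hdn, hne1, hne2⟩ := flip_facts
    have hwu : signAut flipWord • Spor.leechU = Spor.leechU := Subtype.ext hfu
    let gw : Spor.Co2 := ⟨((signAut flipWord : Co0) : Equiv.Perm leechLattice), (signAut flipWord).2, hwu⟩
    obtain ⟨y, hy, hyg⟩ := (h.ge (Subgroup.mem_top gw) : gw ∈ Subgroup.map χb _)
    let x : leechPerpU := ⟨flipVec, by
      show (16 : ℤ) ∣ dotInt (twoVec 13062145) Spor.vecU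
      rw [hdotu]⟩
    let x' : leechPerpU := ⟨signAut flipWord • flipVec, by
      show (16 : ℤ) ∣ dotInt ((signAut flipWord • flipVec : leechLattice) : GolayPt → ℤ)
        (Spor.leechU : GolayPt → ℤ)
      conv_rhs => rw [← hwu]
      rw [dot_smul']
      exact x.2⟩
    obtain ⟨q, hq⟩ := QuotientGroup.mk_surjective (ψ x)
    have hact := hmodule.2.2.2 y gw (show χb y = gw from hyg) x x' rfl q hq.symm
    have hyq : (⟨y * q * y⁻¹, hRn.conj_mem _ q.2 y⟩ : R) = q := by
      refine Subtype.ext ?_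
      show y * q * y⁻¹ = _
      rw [← Subgroup.mem_centralizer_iff.1 hy q q.2, mul_inv_cancel_right]
    rw [hyq, hq] at hact
    have h1 : ψ (x - x') = 1 := by
      have := hmodule.1 (x - x') x'
      rw [sub_add_cancel, ← hact] at this
      exact mul_eq_right.1 this.symm
    rw [hmodule.2.2.1] at h1
    rcases h1 with ⟨w, hw⟩ | ⟨w, hw⟩
    · refine cls_ne_zero (Or.inl hdn) ((cls_eq_iff _ _).2 ⟨w, w.2, ?_⟩)
      rw [sub_zero, two_nsmul]
      exact congrArg Subtype.val hw
    · rcases short_congr (x := twoVec 13062145 - flipSign (vec 4038912) (twoVec 13062145))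
        (y := Spor.vecU) Spor.leechU.2 hne1 (by omega)
        (by rw [show sqNorm Spor.vecU = 32 from vecU_norm]; omega)
        ⟨w, w.2, by
          have hw' : twoVec 13062145 - flipSign (vec 4038912) (twoVec 13062145) =
              Spor.vecU + ((w : GolayPt → ℤ) + (w : GolayPt → ℤ)) := congrArg Subtype.val hw
          rw [hw', two_nsmul, add_sub_cancel_left]⟩ with e' | ⟨e', -, -⟩
      · exact hne2 e'
      · rw [hdn] at e'; omega
  refine ⟨zb, R, hRn, ⟨?_, ?_, hextra, hcardR, ?_⟩, e, ψ, hmodule⟩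
  · refine orderOf_eq_prime ?_ ?_
    · rw [pow_two]; exact congrArg Subtype.val hzz2
    · exact fun h => hzz1 (Subtype.ext h)
  · exact Fstar_eq_of_simple_quotient R hR2 hsolv hself
  · obtain ⟨g, hgt, hgQ, hgz⟩ := exists_moving D hex ht hv hn
    let gK : K := ⟨g, hKmem.2 (mul_inv_eq_iff_eq_mul.1 hgt)⟩
    have hcomm : g * z * g⁻¹ * t = t * (g * z * g⁻¹) := by
      calc g * z * g⁻¹ * t = g * z * g⁻¹ * (g * t * g⁻¹) := by rw [hgt]
        _ = g * (z * t) * g⁻¹ := by group
        _ = g * (t * z) * g⁻¹ := by rw [hzt]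
        _ = g * t * g⁻¹ * (g * z * g⁻¹) := by group
        _ = _ := by rw [hgt]
    have hmem : g * z * g⁻¹ ∈ M := ⟨D.le_C hgQ, hKmem.2 hcomm⟩
    have hval : p gK * zb * (p gK)⁻¹ = (ι ⟨_, hmem⟩ : Subgroup.centralizer ({zb} : Set (K ⧸ N))).1 := by
      rw [← map_inv, ← map_mul, ← map_mul]
      rfl
    refine ⟨p gK, ⟨hval ▸ (ι ⟨_, hmem⟩).2, ⟨⟨_, hmem⟩, hgQ, Subtype.ext hval.symm⟩⟩, fun h => ?_⟩
    rw [hval] at h
    rcases (hι ⟨z, hzM⟩ ⟨_, hmem⟩).1 (Subtype.ext h.symm) with e' | e'
    · exact hgz e'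
    · exact hncz (isConj_iff.2 ⟨g, by rw [← hzt]; exact e'⟩)

end CfsgLib.Monster
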