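/-
Involutions with all products of two conjugates of odd prime power order.
-/
import Cfsg.Agent.ZStar.Final
import Cfsg.Agent.Solvable.CoprimeAct

set_option autoImplicit false
set_option linter.style.haveILetI false

namespace CfsgLib.InvolProducts

open Cfsg Subgroup
open scoped commutatorElement

universe u

variable {G : Type u} [Group G] [Finite G]

theorem pCore_map_le_pCore {K : Subgroup G} [K.Normal] (p : ℕ) [Fact p.Prime] :
    (Cfsg.pCore p K).map K.subtype ≤ Cfsg.pCore p G := by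
  refine Solvable.le_pCore p ⟨?_⟩ ((Solvable.isPGroup_pCore p).map _)
  rintro _ ⟨x, hx, rfl⟩ g
  let φ : K ≃* K := MulAut.conjNormal g
  have hle : (Cfsg.pCore p K).map φ.toMonoidHom ≤ Cfsg.pCore p K :=
    Solvable.le_pCore p (Subgroup.Normal.map inferInstance _ φ.surjective)
      ((Solvable.isPGroup_pCore p).map _)
  exact ⟨φ x, hle ⟨x, hx, rfl⟩, MulAut.conjNormal_apply g x⟩

theorem mem_pCore {p : ℕ} (hp : p.Prime) (hp2 : p ≠ 2) {d : G} (hd : orderOf d = 2)
    (hprod : ∀ a ∈ conjugatesOf d, ∀ b ∈ conjugatesOf d, ∃ k : ℕ, orderOf (a * b) = p ^ k) :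
    ∀ a ∈ conjugatesOf d, ∀ b ∈ conjugatesOf d, a * b ∈ Cfsg.pCore p G := by
  haveI : Fact p.Prime := ⟨hp⟩
  haveI : Fact (Nat.Prime 2) := ⟨Nat.prime_two⟩
  have hd2 : d * d = 1 := by rw [← pow_two, ← hd, pow_orderOf_eq_one]
  have hdinv : d⁻¹ = d := inv_eq_of_mul_eq_one_right hd2
  have hconj : ∀ g : G, g * d * g⁻¹ ∈ conjugatesOf d := fun g => isConj_iff.2 ⟨g, rfl⟩
  have hself : d ∈ conjugatesOf d := IsConj.refl d
  have hpow : ∀ g : G, ∃ k : ℕ, orderOf (g * d * g⁻¹ * d) = p ^ k :=
    fun g => hprod _ (hconj g) _ hself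
  -- `d` is isolated, hence central modulo an odd normal subgroup
  have hiso : IsIsolatedInvolution d := by
    refine ⟨hd, fun g hg => ?_⟩
    obtain ⟨k, hk⟩ := hpow g
    have h2 : (g * d * g⁻¹ * d) ^ 2 = 1 := by
      rw [(hg.symm).mul_pow, pow_two d, hd2, mul_one, pow_two]
      calc g * d * g⁻¹ * (g * d * g⁻¹) = g * (d * d) * g⁻¹ := by group
        _ = 1 := by rw [hd2]; group
    have h1 : g * d * g⁻¹ * d = 1 := by
      rw [← orderOf_eq_one_iff, hk]
      rcases Nat.eq_zero_or_pos k with rfl | h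
      · exact pow_zero p
      · exact absurd ((Nat.prime_dvd_prime_iff_eq hp Nat.prime_two).1
          ((dvd_pow_self p h.ne').trans (hk ▸ orderOf_dvd_of_pow_eq_one h2))) hp2
    exact (mul_eq_one_iff_eq_inv.1 h1).trans hdinv
  obtain ⟨K, hKn, hKodd, hK⟩ := ZStar.zstar hiso
  set A := zpowers d with hA
  have hAK : A ≤ normalizer (K : Set G) := fun _ _ => (normalizer_eq_top (H := K)).symm ▸ mem_top _
  have hcop : (Nat.card A).Coprime (Nat.card K) := by
    rw [Nat.card_zpowers, hd]; exact hKodd.coprime_two_left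
  have hsolv : Group.IsSolvable A ∨ Group.IsSolvable K := Or.inl inferInstance
  set C := K ⊓ centralizer (A : Set G)
  -- for a prime other than `p` an invariant Sylow subgroup is centralised
  have hsyl : ∀ q : ℕ, q.Prime → q ≠ p →
      q ^ (Nat.card K).factorization q ∣ Nat.card C := by
    intro q hq hqp
    haveI : Fact q.Prime := ⟨hq⟩
    obtain ⟨S, hS⟩ := CoprimeAct.exists_invariant_sylow hAK hcop hsolv q
    have hle : (S : Subgroup K).map K.subtype ≤ C := by
      refine le_inf (map_subtype_le _) fun s hs => ?_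
      rw [hA, Subgroup.mem_centralizer_iff]
      have h0 : d * s = s * d := by
        obtain ⟨k, hk⟩ := hpow s
        have hm : s * d * s⁻¹ * d ∈ (S : Subgroup K).map K.subtype := by
          rw [show s * d * s⁻¹ * d = s * (d * s⁻¹ * d⁻¹) by rw [hdinv]; group]
          exact mul_mem hs ((mem_normalizer_iff.1 (hS (mem_zpowers d)) _).1 (inv_mem hs))
        obtain ⟨j, hj⟩ := IsPGroup.iff_orderOf.1 (S.2.map K.subtype) ⟨_, hm⟩
        rw [Subgroup.orderOf_mk, hk] at hj
        have h1 : s * d * s⁻¹ * d = 1 := by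
          rw [← orderOf_eq_one_iff, hk]
          rcases Nat.eq_zero_or_pos k with rfl | h
          · exact pow_zero p
          · exact absurd ((Nat.prime_dvd_prime_iff_eq hp hq).1
              (hp.dvd_of_dvd_pow (hj ▸ dvd_pow_self p h.ne'))).symm hqp
        exact ((mul_inv_eq_iff_eq_mul.1 (mul_eq_one_iff_eq_inv.1 h1)).trans (by rw [hdinv])).symm
      intro a ha
      obtain ⟨i, rfl⟩ := mem_zpowers_iff.1 ha
      exact ((show Commute d s from h0).zpow_left i).eq
    have := Subgroup.card_dvd_of_le hle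
    rwa [card_map_of_injective K.subtype_injective, S.card_eq_multiplicity] at this
  obtain ⟨S, hS⟩ := CoprimeAct.exists_invariant_sylow hAK hcop hsolv p
  set P := (S : Subgroup K).map K.subtype with hP
  have hPcard : Nat.card P = p ^ (Nat.card K).factorization p := by
    rw [hP, card_map_of_injective K.subtype_injective, S.card_eq_multiplicity]
  -- `K` is the product of `P` and `C`
  have hKPC : ∀ x ∈ K, ∃ a ∈ P, ∃ c ∈ C, x = a * c := by
    let f : P × C → K := fun ac => ⟨(ac.1 : G) * ac.2, mul_mem (map_subtype_le _ ac.1.2) ac.2.2.1⟩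
    have hfib : ∀ ac bd : P × C, f ac = f bd ↔ ∃ i : ↥(P ⊓ C), (bd.1 : G) = ac.1 * i ∧ (bd.2 : G) = (i : G)⁻¹ * ac.2 := by
      intro ac bd
      constructor
      · intro h
        have h' : (ac.1 : G) * ac.2 = bd.1 * bd.2 := congrArg Subtype.val h
        refine ⟨⟨(ac.1 : G)⁻¹ * bd.1, P.mul_mem (P.inv_mem ac.1.2) bd.1.2, ?_⟩, by simp, ?_⟩
        · rw [show (ac.1 : G)⁻¹ * bd.1 = ac.2 * (bd.2 : G)⁻¹ by
            rw [eq_mul_inv_iff_mul_eq, mul_assoc, ← h']; group]
          exact C.mul_mem ac.2.2 (C.inv_mem bd.2.2)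
        · simp only [mul_inv_rev, inv_inv, mul_assoc, h', inv_mul_cancel_left]
      · rintro ⟨i, h1, h2⟩
        exact Subtype.ext (by show (ac.1 : G) * ac.2 = bd.1 * bd.2; rw [h1, h2]; group)
    suffices hsurj : Function.Surjective f by
      intro x hx
      obtain ⟨⟨a, c⟩, h⟩ := hsurj ⟨x, hx⟩
      exact ⟨a, a.2, c, c.2, (congrArg Subtype.val h).symm⟩
    classical
    letI := Fintype.ofFinite (P × C)
    letI := Fintype.ofFinite K
    letI := Fintype.ofFinite ↥(P ⊓ C)
    have hbound : ∀ y ∈ Finset.univ.image f, (Finset.univ.filter fun x => f x = y).card ≤ Fintype.card ↥(P ⊓ C) := by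
      intro y hy
      obtain ⟨ac, -, rfl⟩ := Finset.mem_image.1 hy
      refine (Finset.card_le_card (t := Finset.univ.image fun i : ↥(P ⊓ C) =>
        ((⟨(ac.1 : G) * i, mul_mem ac.1.2 i.2.1⟩ : P), (⟨(i : G)⁻¹ * ac.2, mul_mem (inv_mem i.2.2) ac.2.2⟩ : C))) ?_).trans
        Finset.card_image_le
      intro bd hbd
      obtain ⟨i, h1, h2⟩ := (hfib ac bd).1 (Finset.mem_filter.1 hbd).2.symm
      exact Finset.mem_image.2 ⟨i, Finset.mem_univ _, Prod.ext (Subtype.ext h1.symm) (Subtype.ext h2.symm)⟩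
    have hcount := Finset.card_le_mul_card_image (s := (Finset.univ : Finset (P × C))) _ hbound
    -- the intersection is at most the `p`-part of `C`
    have hinf : Nat.card ↥(P ⊓ C) ∣ p ^ (Nat.card C).factorization p := by
      obtain ⟨j, hj⟩ := IsPGroup.iff_card.1 ((S.2.map K.subtype).to_le (inf_le_left : P ⊓ C ≤ P))
      rw [hj]
      refine Nat.pow_dvd_pow p ((hp.pow_dvd_iff_le_factorization Nat.card_pos.ne').1 ?_)
      exact hj ▸ Subgroup.card_dvd_of_le inf_le_right
    have hprodK : Nat.card K * p ^ (Nat.card C).factorization p ∣ Nat.card P * Nat.card C := by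
      refine (Nat.factorization_le_iff_dvd ?_ ?_).1 fun q => ?_
      · exact Nat.mul_ne_zero Nat.card_pos.ne' (pow_ne_zero _ hp.ne_zero)
      · exact Nat.mul_ne_zero Nat.card_pos.ne' Nat.card_pos.ne'
      rw [Nat.factorization_mul Nat.card_pos.ne' (pow_ne_zero _ hp.ne_zero),
        Nat.factorization_mul Nat.card_pos.ne' Nat.card_pos.ne', hPcard, hp.factorization_pow,
        hp.factorization_pow]
      simp only [Finsupp.coe_add, Pi.add_apply]
      by_cases hqp : q = p
      · subst hqp; simp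
      rw [Finsupp.single_eq_of_ne hqp, Finsupp.single_eq_of_ne hqp, add_zero, zero_add]
      by_cases hq : q.Prime
      · exact (hq.pow_dvd_iff_le_factorization Nat.card_pos.ne').1 (hsyl q hq hqp)
      · simp [Nat.factorization_eq_zero_of_not_prime _ hq]
    have hle : Nat.card K * Nat.card ↥(P ⊓ C) ≤ Nat.card P * Nat.card C :=
      Nat.le_of_dvd (Nat.mul_pos Nat.card_pos Nat.card_pos) ((Nat.mul_dvd_mul_left _ hinf).trans hprodK)
    intro y
    by_contra hy
    have hlt : (Finset.univ.image f).card < Fintype.card K :=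
      Finset.card_lt_univ_of_notMem (x := y) (by simpa using hy)
    rw [Finset.card_univ] at hcount
    simp only [← Nat.card_eq_fintype_card, Nat.card_prod] at hcount hlt
    have : 0 < Nat.card ↥(P ⊓ C) := Nat.card_pos
    nlinarith
  have hJP : ⁅K, A⁆ ≤ P := by
    rw [commutator_le]
    intro x hx a ha
    obtain ⟨b, hb, c, hc, rfl⟩ := hKPC x hx
    have hca : c * a * c⁻¹ = a := by
      rw [← (mem_centralizer_iff.1 hc.2 a ha), mul_inv_cancel_right]
    rw [commutatorElement_def, show b * c * a * (b * c)⁻¹ * a⁻¹ = b * (c * a * c⁻¹) * b⁻¹ * a⁻¹ by group,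
      hca, show b * a * b⁻¹ * a⁻¹ = b * (a * b⁻¹ * a⁻¹) by group]
    exact mul_mem hb ((mem_normalizer_iff.1 (hS ha) _).1 (inv_mem hb))
  have hJle : ⁅K, A⁆ ≤ Cfsg.pCore p G := by
    have hJK : ⁅K, A⁆ ≤ K := le_normalizer_iff_commutator_le_left.1 hAK
    haveI : (⁅K, A⁆.subgroupOf K).Normal :=
      (normal_subgroupOf_iff_le_normalizer hJK).2 (normalizer_commutator_ge_left _ _)
    have hp' : IsPGroup p (⁅K, A⁆.subgroupOf K) :=
      ((S.2.map K.subtype).to_le hJP).comap_subtype
    intro x hx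
    exact pCore_map_le_pCore p
      ⟨⟨x, hJK hx⟩, Solvable.le_pCore p inferInstance hp' hx, rfl⟩
  have hmain : ∀ g : G, d * (g * d * g⁻¹) ∈ Cfsg.pCore p G := by
    intro g
    set y := d * (g * d * g⁻¹) with hy
    have hyK : y ∈ K := by
      have := hK g
      rwa [hy, show d * (g * d * g⁻¹) = d * g * d * g⁻¹ by group, ← hdinv.symm.trans rfl] at *
    have hodd : Odd (orderOf y) := by
      have := orderOf_dvd_natCard (⟨y, hyK⟩ : K)
      rw [Subgroup.orderOf_mk] at this
      exact hKodd.of_dvd_nat this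
    obtain ⟨m, hm⟩ := hodd
    set k := y ^ (m + 1) with hk
    have hk2 : k * k = y := by
      rw [hk, ← pow_add, show m + 1 + (m + 1) = (2 * m + 1) + 1 by ring, pow_succ, ← hm,
        pow_orderOf_eq_one, one_mul]
    have hdy : d * y * d = y⁻¹ := by
      rw [hy, mul_inv_rev, mul_inv_rev, mul_inv_rev, inv_inv, hdinv]
      calc d * (d * (g * d * g⁻¹)) * d = d * d * (g * d * g⁻¹) * d := by group
        _ = _ := by rw [hd2, one_mul]; group
    have hdk : d * k⁻¹ * d = k := by
      have h1 : d * y⁻¹ * d⁻¹ = y := by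
        have := congrArg Inv.inv hdy
        rw [inv_inv, mul_inv_rev, mul_inv_rev, hdinv] at this
        rw [hdinv, mul_assoc]; exact this
      have h2 := congrArg (· ^ (m + 1)) h1
      simp only [conj_pow] at h2
      rwa [inv_pow, hdinv, ← hk] at h2
    refine hJle ?_
    have e : y = ⁅k, d⁆ := by
      rw [commutatorElement_def, hdinv, mul_assoc, mul_assoc k d, ← mul_assoc d, hdk, hk2]
    rw [e]
    exact commutator_mem_commutator (K.pow_mem hyK _) (mem_zpowers d)
  intro a ha b hb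
  obtain ⟨g, rfl⟩ := isConj_iff.1 (show IsConj d a from ha)
  obtain ⟨h, rfl⟩ := isConj_iff.1 (show IsConj d b from hb)
  have h0 := hmain (g⁻¹ * h)
  have h1 := (inferInstance : (Cfsg.pCore p G).Normal).conj_mem _ h0 g
  rwa [show g * (d * (g⁻¹ * h * d * (g⁻¹ * h)⁻¹)) * g⁻¹ = g * d * g⁻¹ * (h * d * h⁻¹) by group] at h1

end CfsgLib.InvolProducts
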