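/-
Groups of Monster type: a maximal elementary abelian subgroup from the singular sublattice.
-/
import Cfsg.Agent.Monster.Classes

set_option autoImplicit false

namespace CfsgLib.Monster

open Cfsg CfsgLib.Leech CfsgLib.Extra2

attribute [local irreducible] shortVecs halfTable quarterTable codeFinset

variable {G : Type*} [Group G] {z : G} (D : Data z)

theorem exists_elementary : ∃ E : Subgroup D.Q, IsElementaryAbelian 2 E ∧ Nat.card E = 2 ^ 13 := by
  classical
  have hle2 : twoLeech ≤ singularLattice := fun x hx => by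
    obtain ⟨u, hu, rfl⟩ := (mem_twoLeech_iff x).1 hx
    have := two_smul_mem_singular hu
    rwa [two_zsmul, ← two_nsmul] at this
  let p : ((GolayPt → ℤ) ⧸ twoLeech) →+ ((GolayPt → ℤ) ⧸ singularLattice) :=
    QuotientAddGroup.map _ _ (AddMonoidHom.id _) hle2
  let f : D.Q →* Multiplicative ((GolayPt → ℤ) ⧸ singularLattice) :=
    MonoidHom.mk' (fun q => Multiplicative.ofAdd (p (D.cl (q : G)))) fun a b => by
      rw [Subgroup.coe_mul, D.cl_mul _ a.2 _ b.2, map_add, ofAdd_add]
  have hp : ∀ x, p (cls x) = QuotientAddGroup.mk x := fun x => rfl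
  refine ⟨f.ker, ?_, ?_⟩
  · have hsq : ∀ a ∈ f.ker, a ^ 2 = 1 := by
      intro a ha
      obtain ⟨v, hv⟩ := D.cl_rep _ a.2
      have h0 : p (D.cl (a : G)) = 0 := Multiplicative.ofAdd.injective (MonoidHom.mem_ker.1 ha)
      rw [hv, hp, QuotientAddGroup.eq_zero_iff] at h0
      obtain ⟨k, hk⟩ := thirtytwo_dvd_singular h0
      refine Subtype.ext ?_
      rw [SubgroupClass.coe_pow, pow_two]
      refine (sqNorm_div_eq D a.2 hv).2 ?_
      rw [hk, show (32 * k / 16 : ℤ) = 2 * k by omega]
      push_cast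
      rw [show (2 : ZMod 2) = 0 from rfl, zero_mul]
    refine ⟨⟨⟨fun a b => ?_⟩⟩, hsq⟩
    have h : ∀ c : f.ker, c⁻¹ = c := fun c => inv_eq_of_mul_eq_one_right (Subtype.ext (by
      rw [Subgroup.coe_mul, ← pow_two]; exact hsq _ c.2))
    calc a * b = (a * b)⁻¹ := (h _).symm
      _ = b⁻¹ * a⁻¹ := mul_inv_rev a b
      _ = b * a := by rw [h, h]
  · have hr : Nat.card f.range = 2 ^ 12 := by
      let Hs : AddSubgroup ((GolayPt → ℤ) ⧸ singularLattice) :=
        leechLattice.map (QuotientAddGroup.mk' singularLattice)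
      have e : (f.range : Set (Multiplicative ((GolayPt → ℤ) ⧸ singularLattice))) =
          Multiplicative.ofAdd '' (Hs : Set ((GolayPt → ℤ) ⧸ singularLattice)) := by
        ext x
        constructor
        · rintro ⟨q, rfl⟩
          obtain ⟨v, hv⟩ := D.cl_rep _ q.2
          exact ⟨_, ⟨v, v.2, rfl⟩, by show _ = Multiplicative.ofAdd (p (D.cl (q : G))); rw [hv, hp]; rfl⟩
        · rintro ⟨_, ⟨v, hv, rfl⟩, rfl⟩
          obtain ⟨q, hq, hqv⟩ := D.cl_surj ⟨v, hv⟩
          exact ⟨⟨q, hq⟩, by show Multiplicative.ofAdd (p (D.cl q)) = _; rw [hqv, hp]; rfl⟩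
      rw [show Nat.card f.range = Nat.card ↥(f.range : Set (Multiplicative ((GolayPt → ℤ) ⧸ singularLattice))) from rfl, e,
        Nat.card_image_of_injective Multiplicative.ofAdd.injective]
      show Nat.card Hs = _
      have h1 := AddSubgroup.card_mul_index Hs
      have h2 : Hs.index = leechLattice.index := by
        rw [AddSubgroup.index_map_eq]
        · exact QuotientAddGroup.mk'_surjective _
        · rw [QuotientAddGroup.ker_mk']; exact singularLattice_le
      rw [h2, index_leech, show Nat.card ((GolayPt → ℤ) ⧸ singularLattice) = 2 ^ 48 from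
        index_singularLattice] at h1
      exact Nat.eq_of_mul_eq_mul_right (Nat.two_pow_pos 36) (h1.trans (by rw [← pow_add]))
    have h1 := Subgroup.card_mul_index f.ker
    rw [Subgroup.index_ker, hr, D.card] at h1
    exact Nat.eq_of_mul_eq_mul_right (Nat.two_pow_pos 12) (h1.trans (by rw [← pow_add]))

end CfsgLib.Monster
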